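import Groth.Agent.ToposQC.Obj
import Groth.Agent.ToposQC.Disjoint

/-!
Coproducts and quasi-compactness in a sheaf topos.
-/

set_option autoImplicit false

universe w u

open CategoryTheory CategoryTheory.Limits Opposite

namespace Groth.Agent.ToposQC

open ToposFin

variable {C : Type u} [SmallCategory C] {J : GrothendieckTopology C}

/-- all maps out of the object coincide -/
def Null (P : Sh J) : Prop := ∀ (Z : Sh J) (a b : P ⟶ Z), a = b

theorem null_of_map {P Q : Sh J} (f : P ⟶ Q) (hQ : Null Q) : Null P := fun Z a b =>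
  je_pullback (π := fun k : PEmpty.{u + 1} => (k.elim : (fun k => k.elim : PEmpty.{u + 1} → Sh J) k ⟶ Q))
    (fun W a b _ => hQ W a b) f (P := fun k => k.elim) (fun k => k.elim) (fun k => k.elim) (fun k => k.elim) Z a b fun k => k.elim

theorem null_of_isInitial {P : Sh J} (h : IsInitial P) : Null P := fun _ a b => h.hom_ext a b

theorem qc_of_null {P : Sh J} (h : Null P) : IsQC P :=
  qc_of_finite (κ := PEmpty.{1}) (F := fun k => k.elim) (π := fun k => k.elim) (fun Z a b _ => h Z a b) fun k => k.elim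

theorem exists_hom_of_null {P : Sh J} (h : Null P) (Z : Sh J) : Nonempty (P ⟶ Z) := by
  have hbot : ∀ (U : C), P.obj.obj (op U) → (⊥ : Sieve U) ∈ J U := fun U s => by
    obtain ⟨S, hS, hloc⟩ := (je_iff_local (F := fun k : PEmpty.{u + 1} => (k.elim : Sh J)) (π := fun k => k.elim)).1
      (fun W a b _ => h W a b) U s
    refine J.superset_covering (fun V f hf => ?_) hS
    obtain ⟨i, -⟩ := hloc V f hf
    exact i.elim
  have hZ := (isSheaf_iff_isSheaf_of_type J Z.obj).1 Z.property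
  have hne : ∀ (U : C) (_s : P.obj.obj (op U)), Nonempty (Z.obj.obj (op U)) := fun U s =>
    ⟨(hZ _ (hbot U s)).amalgamate (fun V f hf => hf.elim) (fun V₁ V₂ W g₁ g₂ f₁ f₂ h₁ => h₁.elim)⟩
  refine ⟨⟨{ app := fun U => ↾(fun s => (hne U.unop s).some), naturality := fun U V f => ?_ }⟩⟩
  ext s
  exact (hZ _ (hbot V.unop (P.obj.map f s))).isSeparatedFor.ext fun W g hg => hg.elim

/-- an object all of whose maps out coincide is initial -/
noncomputable def isInitialOfNull {P : Sh J} (h : Null P) : IsInitial P :=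
  IsInitial.ofUniqueHom (fun Z => (exists_hom_of_null h Z).some) fun Z m => h Z m _

theorem qcHom_of_null {X Y : Sh J} (f : X ⟶ Y) (h : Null X) : IsQCHom f := fun Y' g _ =>
  qc_of_null (null_of_map (pullback.fst f g) h)

theorem cofan_mono {ι : Type u} {X : ι → Sh J} {c : Cofan X} (hc : IsColimit c) (i : ι) : Mono (c.inj i) := by
  obtain ⟨c', hc', hd, -⟩ := Groth.Agent.ToposQC.Disj.disjointUniversal (J := J) ι X
  exact Mono.of_coproductDisjoint hc i

theorem cofan_disjoint {ι : Type u} {X : ι → Sh J} {c : Cofan X} (hc : IsColimit c) {i j : ι} (hij : i ≠ j)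
    {W : Sh J} (a : W ⟶ X i) (b : W ⟶ X j) (w : a ≫ c.inj i = b ≫ c.inj j) : Null W := by
  obtain ⟨c', hc', hd, -⟩ := Groth.Agent.ToposQC.Disj.disjointUniversal (J := J) ι X
  exact null_of_map (pullback.lift a b w) (null_of_isInitial
    (IsInitial.ofCoproductDisjointOfIsColimit hij hc))

theorem qcHom_inj {ι : Type u} {X : ι → Sh J} {c : Cofan X} (hc : IsColimit c) (i : ι) : IsQCHom (c.inj i) := by
  classical
  intro Y' g hY
  haveI := cofan_mono hc i
  rw [qc_iff]
  intro κ G ρ hρ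
  let F' : κ ⊕ {k : ι // k ≠ i} → Sh J := Sum.elim G (fun k => pullback (c.inj k.1) g)
  let π' : ∀ x, F' x ⟶ Y' := fun x => match x with
    | Sum.inl l => ρ l ≫ pullback.snd (c.inj i) g
    | Sum.inr k => pullback.snd (c.inj k.1) g
  have hπ' : JE π' := fun Z a b e => je_pullback_snd (je_cofan c hc) g Z a b fun k => by
    by_cases hk : k = i
    · subst hk
      exact hρ Z _ _ fun l => (Category.assoc _ _ _).symm.trans ((e (Sum.inl l)).trans (Category.assoc _ _ _))
    · exact e (Sum.inr ⟨k, hk⟩)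
  obtain ⟨s, hs⟩ := qc_exists_finite hY hπ'
  refine ⟨s.toLeft, fun Z a b e => je_pullback_fst hs (pullback.snd (c.inj i) g) Z a b fun x => ?_⟩
  obtain ⟨x, hx⟩ := x
  have hw := pullback.condition (f := pullback.snd (c.inj i) g) (g := π' x)
  match x with
  | Sum.inl l =>
    have h : pullback.fst (pullback.snd (c.inj i) g) (π' (Sum.inl l)) =
        pullback.snd (pullback.snd (c.inj i) g) (π' (Sum.inl l)) ≫ ρ l :=
      (cancel_mono (pullback.snd (c.inj i) g)).1 (hw.trans (Category.assoc _ _ _).symm)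
    show pullback.fst (pullback.snd (c.inj i) g) (π' (Sum.inl l)) ≫ a = pullback.fst (pullback.snd (c.inj i) g) (π' (Sum.inl l)) ≫ b
    rw [h, Category.assoc, Category.assoc]
    exact congrArg (_ ≫ ·) (e ⟨l, Finset.mem_toLeft.2 hx⟩)
  | Sum.inr k =>
    refine cofan_disjoint hc k.2 (pullback.snd _ _ ≫ pullback.fst (c.inj k.1) g)
      (pullback.fst _ _ ≫ pullback.fst (c.inj i) g) ?_ Z _ _
    simp only [Category.assoc, pullback.condition]
    exact (((Category.assoc _ _ _).symm.trans (congrArg (· ≫ g) hw)).trans (Category.assoc _ _ _)).symm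

theorem qcHom_of_target' {X Y : Sh J} (f : X ⟶ Y) {ι : Type u} {Yi : ι → Sh J} {g : ∀ i, Yi i ⟶ Y} (hg : JE g)
    (hqc : ∀ i, IsQCHom (g i)) (h : ∀ i, IsQCHom (pullback.snd f (g i))) : IsQCHom f := fun Y' k hY => by
  refine qc_pullback_of_cover f k hY (je_pullback_snd hg k) fun i => ?_
  refine qc_of_iso (pullback.congrHom rfl (pullback.condition (f := g i) (g := k))) ?_
  refine qc_of_iso ?_ (h i _ (pullback.fst (g i) k) (hqc i Y' k hY))
  exact ((IsPullback.of_hasPullback (pullback.snd f (g i)) (pullback.fst (g i) k)).paste_horiz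
    (IsPullback.of_hasPullback f (g i))).isoPullback

theorem map_prop {X Y X' Y' S : Sh J}
    (Q : ∀ {A B : Sh J}, (A ⟶ B) → Prop)
    (hcomp : ∀ {A B D : Sh J} {f : A ⟶ B} {g : B ⟶ D}, Q f → Q g → Q (f ≫ g))
    (hbc : ∀ {A B A' B' : Sh J} {f : A ⟶ B} {p : A' ⟶ A} {f' : A' ⟶ B'} {g : B' ⟶ B}, IsPullback p f' f g → Q f → Q f')
    (f : X ⟶ Y) (f' : X' ⟶ Y') (a : Y ⟶ S) (a' : Y' ⟶ S) (hf : Q f) (hf' : Q f') :
    Q (pullback.map (f ≫ a) (f' ≫ a') a a' f f' (𝟙 S) (Category.comp_id _) (Category.comp_id _)) := by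
  have e1 : IsPullback (pullback.fst (f ≫ a) a')
      (pullback.map (f ≫ a) a' a a' f (𝟙 Y') (𝟙 S) (Category.comp_id _) (by simp)) f (pullback.fst a a') := by
    refine IsPullback.of_bot ?_ (pullback.lift_fst _ _ _).symm (IsPullback.of_hasPullback a a')
    rw [show pullback.map (f ≫ a) a' a a' f (𝟙 Y') (𝟙 S) (Category.comp_id _) (by simp) ≫ pullback.snd a a' =
      pullback.snd (f ≫ a) a' from (pullback.lift_snd _ _ _).trans (Category.comp_id _)]
    exact IsPullback.of_hasPullback (f ≫ a) a'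
  have e2 : IsPullback (pullback.snd (f ≫ a) (f' ≫ a'))
      (pullback.map (f ≫ a) (f' ≫ a') (f ≫ a) a' (𝟙 _) f' (𝟙 S) (by simp) (Category.comp_id _)) f'
      (pullback.snd (f ≫ a) a') := by
    refine IsPullback.of_bot ?_ (pullback.lift_snd _ _ _).symm (IsPullback.of_hasPullback (f ≫ a) a').flip
    rw [show pullback.map (f ≫ a) (f' ≫ a') (f ≫ a) a' (𝟙 _) f' (𝟙 S) (by simp) (Category.comp_id _) ≫
      pullback.fst (f ≫ a) a' = pullback.fst (f ≫ a) (f' ≫ a') from (pullback.lift_fst _ _ _).trans (Category.comp_id _)]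
    exact (IsPullback.of_hasPullback (f ≫ a) (f' ≫ a')).flip
  have h : pullback.map (f ≫ a) (f' ≫ a') (f ≫ a) a' (𝟙 _) f' (𝟙 S) (by simp) (Category.comp_id _) ≫
      pullback.map (f ≫ a) a' a a' f (𝟙 Y') (𝟙 S) (Category.comp_id _) (by simp) =
      pullback.map (f ≫ a) (f' ≫ a') a a' f f' (𝟙 S) (Category.comp_id _) (Category.comp_id _) := by
    rw [pullback.map_comp]
    simp
  exact h ▸ hcomp (hbc e2 hf') (hbc e1 hf)

theorem qsHom_of_source' {Y Z : Sh J} (g : Y ⟶ Z) {ι : Type u} {X : ι → Sh J} {f : ∀ i, X i ⟶ Y} (hf : JE f)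
    (hqc : ∀ i, IsQCHom (f i)) (hqs : ∀ i, IsQSHom (f i ≫ g)) : IsQSHom g := by
  refine qcHom_of_target' _ (je_prod g hf) (fun p => map_prop (fun {A B} q => IsQCHom q) (fun h h' => qcHom_comp h h')
    (fun sq h => qcHom_baseChange sq h) (f p.1) (f p.2) g g (hqc _) (hqc _)) fun p => ?_
  obtain ⟨i, j⟩ := p
  let m := pullback.map (f i) (f j) (f i ≫ g) (f j ≫ g) _ _ g (Category.id_comp _).symm (Category.id_comp _).symm
  have hm : IsQCHom m := by
    refine qcHom_of_comp m (pullback.fst (f i ≫ g) (f j ≫ g))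
      (qsHom_baseChange (IsPullback.of_hasPullback (f i ≫ g) (f j ≫ g)).flip (hqs j)) ?_
    rw [show m ≫ pullback.fst (f i ≫ g) (f j ≫ g) = pullback.fst (f i) (f j) from
      (pullback.lift_fst _ _ _).trans (Category.comp_id _)]
    exact qcHom_baseChange (IsPullback.of_hasPullback (f i) (f j)).flip (hqc j)
  refine qcHom_baseChange (p := 𝟙 _ ≫ (pullback_map_diagonal_isPullback (f i) (f j) g).isoPullback.inv) (g := 𝟙 _) ?_ hm
  exact IsPullback.of_horiz_isIso ⟨by
    simp only [Category.id_comp, Category.comp_id]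
    exact (pullback_map_diagonal_isPullback (f i) (f j) g).isoPullback_inv_snd⟩

end Groth.Agent.ToposQC

namespace Groth.Agent.ToposQC

open ToposFin

variable {C : Type u} [SmallCategory C] {J : GrothendieckTopology C}

theorem qs_cofan_iff {ι : Type u} {X : ι → Sh J} (c : Cofan X) (hc : IsColimit c) : IsQS c.pt ↔ ∀ i, IsQS (X i) := by
  haveI : ∀ i, Mono (c.inj i) := fun i => cofan_mono hc i
  refine ⟨fun h i => qs_of_mono (c.inj i) h, fun h => (qs_iff _).2 fun P a hP => ?_⟩
  refine qcHom_of_target' a (je_cofan c hc) (fun i => qcHom_inj hc i) fun i => ?_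
  exact (qs_iff _).1 (h i) _ _ (qcHom_apply (qcHom_inj hc i) (IsPullback.of_hasPullback a (c.inj i)).flip hP)

theorem qc_cofan_iff {ι : Type u} {X : ι → Sh J} (c : Cofan X) (hc : IsColimit c) :
    IsQC c.pt ↔ (∀ i, IsQC (X i)) ∧ ∃ T : Finset ι, ∀ i, i ∉ T → Null (X i) := by
  classical
  refine ⟨fun h => ⟨fun i => qc_of_qcHom _ (qcHom_inj hc i) h, ?_⟩, fun ⟨h, T, hT⟩ => ?_⟩
  · obtain ⟨s, hs⟩ := qc_exists_finite h (je_cofan c hc)
    refine ⟨s, fun k hk Z a b => je_pullback_fst hs (c.inj k) Z a b fun i => ?_⟩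
    exact cofan_disjoint hc (fun hki => hk (by rw [hki]; exact i.2)) (pullback.fst _ _) (pullback.snd _ _)
      pullback.condition Z _ _
  · refine qc_of_finite (κ := T) (π := fun k : T => c.inj k.1) (fun Z a b e => je_cofan c hc Z a b fun i => ?_)
      (fun k => h _)
    by_cases hi : i ∈ T
    · exact e ⟨i, hi⟩
    · exact hT i hi Z _ _

end Groth.Agent.ToposQC
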