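import Groth.Agent.ToposQC.Filt
import Groth.Agent.ToposQC.Coprod
import Mathlib.CategoryTheory.Limits.Preserves.Shapes.Pullbacks

/-!
Recognition of coproducts in a sheaf topos.
-/

set_option autoImplicit false

universe w u

open CategoryTheory CategoryTheory.Limits Opposite

namespace Groth.Agent.ToposQC

open ToposFin

variable {C : Type u} [SmallCategory C] {J : GrothendieckTopology C}

theorem isColimit_cofan_iff {X : Sh J} {ι : Type u} {F : ι → Sh J} (π : ∀ i, F i ⟶ X) :
    Nonempty (IsColimit (Cofan.mk X π)) ↔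
      JE π ∧ (∀ i, Mono (π i)) ∧ ∀ i j, i ≠ j → Null (pullback (π i) (π j)) := by
  refine ⟨fun ⟨hc⟩ => ⟨je_cofan _ hc, fun i => cofan_mono hc i, fun i j hij =>
    cofan_disjoint hc hij (pullback.fst (π i) (π j)) (pullback.snd (π i) (π j)) pullback.condition⟩, fun ⟨hje, hm, hd⟩ => ?_⟩
  have key : ∀ s : Cofan F, ∃ d : X ⟶ s.pt, ∀ i, π i ≫ d = s.inj i := fun s =>
    exists_glue hje _ fun i j => by
      by_cases hij : i = j
      · subst hij
        haveI := hm i
        rw [(cancel_mono (π i)).1 (pullback.condition (f := π i) (g := π i))]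
      · exact hd i j hij _ _ _
  choose d hd' using key
  exact ⟨mkCofanColimit _ d hd' fun s m hm' => hje _ _ _ fun i => (hm' i).trans (hd' s i).symm⟩

/-- sheafified diagonals are isomorphisms iff the sheafified map is a monomorphism -/
theorem isIso_diagonal_map_iff {P Q : Cᵒᵖ ⥤ Type u} (f : P ⟶ Q) :
    IsIso ((presheafToSheaf J (Type u)).map (pullback.diagonal f)) ↔ Mono ((presheafToSheaf J (Type u)).map f) := by
  let a := presheafToSheaf J (Type u)
  rw [← pullback.isIso_diagonal_iff (a.map f)]
  have e : pullback.diagonal (a.map f) = a.map (pullback.diagonal f) ≫ (PreservesPullback.iso a f f).hom := by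
    apply pullback.hom_ext
    · rw [pullback.diagonal_fst, Category.assoc, PreservesPullback.iso_hom_fst, ← a.map_comp, pullback.diagonal_fst, a.map_id]
    · rw [pullback.diagonal_snd, Category.assoc, PreservesPullback.iso_hom_snd, ← a.map_comp, pullback.diagonal_snd, a.map_id]
  rw [e]
  exact (isIso_comp_right_iff _ _).symm

theorem null_iff_isInitial_map {P Q R : Cᵒᵖ ⥤ Type u} (f : P ⟶ R) (g : Q ⟶ R) :
    Nonempty (IsInitial ((presheafToSheaf J (Type u)).obj (pullback f g))) ↔
      Null (pullback ((presheafToSheaf J (Type u)).map f) ((presheafToSheaf J (Type u)).map g)) := by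
  let e := PreservesPullback.iso (presheafToSheaf J (Type u)) f g
  exact ⟨fun ⟨h⟩ => null_of_isInitial (h.ofIso e), fun h => ⟨(isInitialOfNull h).ofIso e.symm⟩⟩

end Groth.Agent.ToposQC
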