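import Groth.Agent.ToposQC.Site

/-!
Quasi-separated objects of a sheaf topos.
-/

set_option autoImplicit false

universe w u

open CategoryTheory CategoryTheory.Limits Opposite

namespace Groth.Agent.ToposQC

open ToposFin

variable {C : Type u} [SmallCategory C] {J : GrothendieckTopology C}

theorem qs_of_cover {α : Type*} {G : α → Sh J} (hG : ∀ a, IsQC (G a)) (hgen : Gen G) {Y : Sh J} {ι : Type u}
    {Yi : ι → Sh J} {g : ∀ i, Yi i ⟶ Y} (hg : JE g) (hqs : ∀ i, IsQS (Yi i)) (hqc : ∀ i, IsQCHom (g i)) : IsQS Y :=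
  (qs_iff Y).2 fun P a hP => qcHom_of_target hG hgen a hg fun i =>
    (qs_iff _).1 (hqs i) _ _ (qcHom_apply (hqc i) (IsPullback.of_hasPullback a (g i)).flip hP)

theorem qcHom_of_pairs {α : Type*} {G : α → Sh J} (hG : ∀ a, IsQC (G a)) (hgen : Gen G) {Y : Sh J} {ι : Type u}
    {Yi : ι → Sh J} {g : ∀ i, Yi i ⟶ Y} (hg : JE g) (hY : ∀ i, IsQS (Yi i))
    (h : ∀ i j, IsQC (pullback (g i) (g j))) (i : ι) : IsQCHom (g i) :=
  qcHom_of_target hG hgen _ hg fun j => (qs_iff _).1 (hY j) _ _ (h i j)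

theorem qsHom_of_pairs {α : Type*} {G : α → Sh J} (hG : ∀ a, IsQC (G a)) (hgen : Gen G) {X Y : Sh J} (f : X ⟶ Y)
    (hX : IsQS X) {ι : Type u} {Xi : ι → Sh J} {g : ∀ i, Xi i ⟶ X} (hg : JE g) (hqc : ∀ i, IsQC (Xi i))
    (hqs : ∀ i j, IsQS (pullback (g i ≫ f) (g j ≫ f))) : IsQSHom f := by
  refine qcHom_of_target hG hgen _ (je_prod f hg) fun p => ?_
  obtain ⟨i, j⟩ := p
  have hm : IsQCHom (pullback.map (g i) (g j) (g i ≫ f) (g j ≫ f) _ _ f (Category.id_comp _).symm (Category.id_comp _).symm) :=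
    (qs_iff _).1 (hqs i j) _ _ (hX _ _ (g i) (g j) (hqc i) (hqc j))
  refine qcHom_baseChange (p := 𝟙 _ ≫ (pullback_map_diagonal_isPullback (g i) (g j) f).isoPullback.inv) (g := 𝟙 _) ?_ hm
  exact IsPullback.of_horiz_isIso ⟨by
    simp only [Category.id_comp, Category.comp_id]
    exact (pullback_map_diagonal_isPullback (g i) (g j) f).isoPullback_inv_snd⟩

/-! sites with fibre products -/

theorem exists_cover_am {X U : C} (s : eps J U ⟶ eps J X) :
    ∃ (κ : Type u) (V : κ → C) (h : ∀ k, V k ⟶ U) (h' : ∀ k, V k ⟶ X),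
      JE (fun k => am (J := J) (h k)) ∧ ∀ k, am (h k) ≫ s = am (h' k) := by
  let q := toSheafify J (yoneda.obj X)
  let S := Presheaf.imageSieve q (el U _ s)
  have hS : S ∈ J U := Presheaf.imageSieve_mem J q _
  let κ := Σ V : C, {h : V ⟶ U // S h}
  have ht : ∀ k : κ, ∃ t : k.1 ⟶ X, q.app (op k.1) t = (eps J X).obj.map k.2.1.op (el U _ s) := fun k => k.2.2
  choose t ht using ht
  refine ⟨κ, fun k => k.1, fun k => k.2.1, t, je_of_cover (fun k : κ => k.1) (fun k => k.2.1) (J.superset_covering (fun V h hh =>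
    Sieve.ofArrows_mk (fun k : κ => k.1) (fun k => k.2.1) ⟨V, h, hh⟩) hS), fun k => ?_⟩
  apply (el k.1 (eps J X)).injective
  rw [el_map, ← ht k, ← Category.comp_id (am (t k)), el_map]
  have e : el X (eps J X) (𝟙 _) = q.app (op X) (𝟙 X) := by
    show yonedaEquiv ((sheafificationAdjunction J (Type u)).homEquiv _ _ (𝟙 _)) = _
    rw [Adjunction.homEquiv_id]
    rfl
  rw [e]
  exact ((NatTrans.naturality_apply q (t k).op (𝟙 X)).symm.trans (congrArg (q.app (op k.1)) (Category.comp_id (t k)))).symm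

theorem qc_pullback_am [HasPullbacks C] (hC : ∀ X : C, IsQCSite J X) {U V X : C} (f : U ⟶ X) (g : V ⟶ X) :
    IsQC (pullback (am (J := J) f) (am g)) :=
  qc_of_iso ((IsPullback.of_hasPullback f g).map (yoneda ⋙ presheafToSheaf J (Type u))).isoPullback (qc_eps_of_site hC _)

theorem qs_eps [HasPullbacks C] (hC : ∀ X : C, IsQCSite J X) (X : C) : IsQS (eps J X) := by
  refine qs_of_gen (qc_eps_of_site hC) gen_eps _ fun U s => qcHom_of_gen (qc_eps_of_site hC) gen_eps _ fun V t => ?_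
  obtain ⟨κ, W, h, h', hje, he⟩ := exists_cover_am t
  refine qc_pullback_of_cover s t (qc_eps_of_site hC V) hje fun k => ?_
  refine qc_of_iso (pullback.congrHom rfl (he k)).symm ?_
  obtain ⟨κ', W', h₂, h₂', hje', he'⟩ := exists_cover_am s
  refine qc_of_iso (pullbackSymmetry _ _) (qc_pullback_of_cover (am (h' k)) s (qc_eps_of_site hC U) hje' fun l => ?_)
  exact qc_of_iso (pullback.congrHom rfl (he' l)).symm (qc_pullback_am hC _ _)

theorem coherent_eps [HasPullbacks C] (hC : ∀ X : C, IsQCSite J X) (X : C) : IsCoherent (eps J X) :=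
  ⟨qc_eps_of_site hC X, qs_eps hC X⟩

end Groth.Agent.ToposQC
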