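import Groth.Agent.ToposQC.Obj
import Mathlib.CategoryTheory.Limits.Types.Filtered
import Mathlib.CategoryTheory.Sites.Limits
import Mathlib.CategoryTheory.Sites.LocallyBijective

/-!
Maps into filtered colimits in a sheaf topos.
-/

set_option autoImplicit false

universe w u

open CategoryTheory CategoryTheory.Limits Opposite

namespace Groth.Agent.ToposQC

open ToposFin

variable {C : Type u} [SmallCategory C] {J : GrothendieckTopology C}

/-- gluing along a jointly epimorphic family -/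
theorem exists_glue {X Z : Sh J} {ι : Type u} {F : ι → Sh J} {π : ∀ i, F i ⟶ X} (hπ : JE π) (z : ∀ i, F i ⟶ Z)
    (hz : ∀ i j, pullback.fst (π i) (π j) ≫ z i = pullback.snd (π i) (π j) ≫ z j) :
    ∃ d : X ⟶ Z, ∀ i, π i ≫ d = z i := by
  have wd : ∀ (V : C) i j (t : (F i).obj.obj (op V)) (t' : (F j).obj.obj (op V)),
      (π i).hom.app (op V) t = (π j).hom.app (op V) t' → (z i).hom.app (op V) t = (z j).hom.app (op V) t' := by
    intro V i j t t' h
    have hw : (el V (F i)).symm t ≫ π i = (el V (F j)).symm t' ≫ π j := by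
      apply (el V X).injective
      rw [el_comp, el_comp, Equiv.apply_symm_apply, Equiv.apply_symm_apply, h]
    have h' := congrArg (fun m => pullback.lift _ _ hw ≫ m) (hz i j)
    simp only [← Category.assoc, pullback.lift_fst, pullback.lift_snd] at h'
    have h'' := congrArg (el V Z) h'
    rwa [el_comp, el_comp, Equiv.apply_symm_apply, Equiv.apply_symm_apply] at h''
  choose S hS hloc using (je_iff_local π).1 hπ
  choose idx t ht using hloc
  have hZ := (isSheaf_iff_isSheaf_of_type J Z.obj).1 Z.property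
  let x : ∀ (U : C) (s : X.obj.obj (op U)), Presieve.FamilyOfElements Z.obj (S U s).arrows := fun U s V f hf =>
    (z (idx U s V f hf)).hom.app (op V) (t U s V f hf)
  have hx : ∀ U s, (x U s).Compatible := by
    intro U s V₁ V₂ W g₁ g₂ f₁ f₂ h₁ h₂ e
    show Z.obj.map g₁.op ((z _).hom.app _ _) = Z.obj.map g₂.op ((z _).hom.app _ _)
    rw [← NatTrans.naturality_apply, ← NatTrans.naturality_apply]
    refine wd W _ _ _ _ ?_
    rw [NatTrans.naturality_apply, NatTrans.naturality_apply, ht, ht, ← FunctorToTypes.map_comp_apply,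
      ← FunctorToTypes.map_comp_apply, ← op_comp, ← op_comp, e]
  have key : ∀ U (s : X.obj.obj (op U)) V (f : V ⟶ U) i (t' : (F i).obj.obj (op V)),
      (π i).hom.app (op V) t' = X.obj.map f.op s →
      Z.obj.map f.op ((hZ _ (hS U s)).amalgamate _ (hx U s)) = (z i).hom.app (op V) t' := by
    intro U s V f i t' h'
    refine (hZ _ (J.pullback_stable f (hS U s))).isSeparatedFor.ext fun W g hg => ?_
    rw [← FunctorToTypes.map_comp_apply, ← op_comp, (hZ _ (hS U s)).valid_glue (hx U s) (g ≫ f) hg,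
      ← NatTrans.naturality_apply]
    refine wd W _ _ _ _ ?_
    rw [ht, NatTrans.naturality_apply, h', op_comp, FunctorToTypes.map_comp_apply]
  refine ⟨⟨{ app := fun U => ↾(fun s => (hZ _ (hS U.unop s)).amalgamate _ (hx U.unop s)), naturality := fun U V f => ?_ }⟩,
    fun i => ?_⟩
  · ext s
    refine (hZ _ (hS V.unop (X.obj.map f s))).isSeparatedFor.ext fun W g hg => ?_
    refine (key _ _ W g _ _ (ht _ _ W g hg)).trans ?_
    refine Eq.trans ?_ (FunctorToTypes.map_comp_apply Z.obj f g.op _)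
    exact (key U.unop s W (g ≫ f.unop) _ _ ((ht _ _ W g hg).trans
      (FunctorToTypes.map_comp_apply X.obj f g.op s).symm)).symm
  · ext ⟨V⟩ t'
    have h := key V ((π i).hom.app (op V) t') V (𝟙 V) i t' (by simp)
    simp only [op_id, CategoryTheory.Functor.map_id] at h
    exact h

variable {I : Type u} [SmallCategory I]

/-- the presheaf colimit maps locally bijectively to the colimit -/
theorem exists_desc {D : I ⥤ Sh J} {c : Cocone D} (hc : IsColimit c) :
    ∃ η : colimit (D ⋙ sheafToPresheaf J (Type u)) ⟶ c.pt.obj,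
      (∀ i, colimit.ι (D ⋙ sheafToPresheaf J (Type u)) i ≫ η = (c.ι.app i).hom) ∧
        Presheaf.IsLocallyInjective J η ∧ Presheaf.IsLocallySurjective J η := by
  let P := D ⋙ sheafToPresheaf J (Type u)
  let hc' := Sheaf.isColimitSheafifyCocone _ (colimit.isColimit P)
  let e : (presheafToSheaf J (Type u)).obj (colimit P) ≅ c.pt := IsColimit.coconePointUniqueUpToIso hc' hc
  refine ⟨toSheafify J (colimit P) ≫ e.hom.hom, fun i => ?_, ?_⟩
  · have h := congrArg (fun m => m.hom) (IsColimit.comp_coconePointUniqueUpToIso_hom hc' hc i)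
    rw [← h]
    exact (Category.assoc _ _ _).symm.trans (congrArg (· ≫ e.hom.hom) (Sheaf.sheafifyCocone_ι_app_val _ i).symm)
  · haveI : IsIso e.hom.hom := inferInstanceAs (IsIso ((sheafToPresheaf J (Type u)).map e.hom))
    exact ⟨inferInstance, inferInstance⟩

/-- every map from a representable to a filtered colimit locally comes from a stage -/
theorem je_inj {D : I ⥤ Sh J} {c : Cocone D} (hc : IsColimit c) : JE (fun i => c.ι.app i) :=
  fun _ a b e => hc.hom_ext e

theorem local_eq [IsFiltered I] {D : I ⥤ Sh J} {c : Cocone D} (hc : IsColimit c) {W : Sh J} {i : I}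
    (a b : W ⟶ D.obj i) (h : a ≫ c.ι.app i = b ≫ c.ι.app i) :
    JE (fun p : Σ j, (i ⟶ j) => equalizer.ι (a ≫ D.map p.2) (b ≫ D.map p.2)) := by
  obtain ⟨η, hη, hinj, -⟩ := exists_desc hc
  rw [je_iff_local]
  intro U s
  let P := D ⋙ sheafToPresheaf J (Type u)
  let A := (colimit.ι P i).app (op U) (a.hom.app (op U) s)
  let B := (colimit.ι P i).app (op U) (b.hom.app (op U) s)
  have hAB : η.app (op U) A = η.app (op U) B := by
    have h1 := ConcreteCategory.congr_hom (NatTrans.congr_app (hη i) (op U)) (a.hom.app (op U) s)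
    have h2 := ConcreteCategory.congr_hom (NatTrans.congr_app (hη i) (op U)) (b.hom.app (op U) s)
    refine h1.trans ?_
    refine Eq.trans ?_ h2.symm
    exact ConcreteCategory.congr_hom (NatTrans.congr_app (congrArg (fun m => m.hom) h) (op U)) s
  refine ⟨Presheaf.equalizerSieve (F := colimit P) A B, (Presheaf.equalizerSieve_mem J η A B hAB :), fun V f hf => ?_⟩
  have hA : ∀ q : W ⟶ D.obj i, (colimit P).map f.op ((colimit.ι P i).app (op U) (q.hom.app (op U) s)) =
      (colimit.ι P i).app (op V) (q.hom.app (op V) (W.obj.map f.op s)) := fun q => by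
    exact (NatTrans.naturality_apply (colimit.ι P i) f.op _).symm.trans
      (congrArg ((colimit.ι P i).app (op V)) (NatTrans.naturality_apply q.hom f.op s).symm)
  have hev : IsColimit (((evaluation Cᵒᵖ (Type u)).obj (op V)).mapCocone (colimit.cocone P)) :=
    isColimitOfPreserves _ (colimit.isColimit P)
  obtain ⟨j, φ, hφ⟩ := (Types.FilteredColimit.isColimit_eq_iff' hev (a.hom.app (op V) (W.obj.map f.op s))
    (b.hom.app (op V) (W.obj.map f.op s))).1 ((hA a).symm.trans (hf.trans (hA b)))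
  have hw : (el V W).symm (W.obj.map f.op s) ≫ a ≫ D.map φ = (el V W).symm (W.obj.map f.op s) ≫ b ≫ D.map φ := by
    apply (el V _).injective
    rw [← Category.assoc, ← Category.assoc, el_comp, el_comp, el_comp, el_comp, Equiv.apply_symm_apply]
    exact hφ
  refine ⟨⟨j, φ⟩, el V _ (equalizer.lift _ hw), ?_⟩
  rw [← el_comp, equalizer.lift_ι, Equiv.apply_symm_apply]

theorem exists_eq_stage [IsFiltered I] {D : I ⥤ Sh J} {c : Cocone D} (hc : IsColimit c) {W : Sh J} (hW : IsQC W)
    {i : I} (a b : W ⟶ D.obj i) (h : a ≫ c.ι.app i = b ≫ c.ι.app i) :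
    ∃ (j : I) (φ : i ⟶ j), a ≫ D.map φ = b ≫ D.map φ := by
  classical
  obtain ⟨s, hs⟩ := qc_exists_finite hW (local_eq hc a b h)
  have : ∀ t : Finset (Σ j, (i ⟶ j)), ∃ (j : I) (φ : i ⟶ j), ∀ p ∈ t, ∃ u : p.1 ⟶ j, p.2 ≫ u = φ := by
    intro t
    induction t using Finset.induction with
    | empty => exact ⟨i, 𝟙 i, fun p hp => absurd hp (Finset.notMem_empty p)⟩
    | insert p t _ ih =>
      obtain ⟨j, φ, hj⟩ := ih
      refine ⟨IsFiltered.coeq (p.2 ≫ IsFiltered.leftToMax p.1 j) (φ ≫ IsFiltered.rightToMax p.1 j),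
        (p.2 ≫ IsFiltered.leftToMax p.1 j) ≫ IsFiltered.coeqHom _ _, fun q hq => ?_⟩
      rcases Finset.mem_insert.1 hq with rfl | hq
      · exact ⟨IsFiltered.leftToMax q.1 j ≫ IsFiltered.coeqHom _ _, (Category.assoc _ _ _).symm⟩
      · obtain ⟨u, hu⟩ := hj q hq
        refine ⟨u ≫ IsFiltered.rightToMax p.1 j ≫ IsFiltered.coeqHom _ _, ?_⟩
        rw [IsFiltered.coeq_condition, ← Category.assoc, hu, Category.assoc]
  obtain ⟨j, φ, hj⟩ := this s
  refine ⟨j, φ, hs _ _ _ fun p => ?_⟩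
  obtain ⟨u, hu⟩ := hj p.1 p.2
  rw [← hu, D.map_comp]
  exact (congrArg (· ≫ D.map u) (equalizer.condition (a ≫ D.map p.1.2) (b ≫ D.map p.1.2)) |> fun e => by simpa using e)

theorem exists_stage [IsFiltered I] {D : I ⥤ Sh J} {c : Cocone D} (hc : IsColimit c) {α : Type*} {G : α → Sh J}
    (hG : ∀ a, IsQC (G a)) (hgen : Gen G) {X : Sh J} (hX : IsCoherent X) (a : X ⟶ c.pt) :
    ∃ (i : I) (b : X ⟶ D.obj i), b ≫ c.ι.app i = a := by
  classical
  have hcov := fun i => hgen (pullback (c.ι.app i) a)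
  choose κ g π hπ using hcov
  obtain ⟨s, hs⟩ := qc_exists_finite hX.1 (je_trans (je_pullback_snd (je_inj hc) a) hπ)
  let O : Finset I := s.image (fun p => p.1)
  obtain ⟨i₀, hi₀⟩ := IsFiltered.sup_objs_exists O
  let u : ∀ p : s, p.1.1 ⟶ i₀ := fun p => (hi₀ (Finset.mem_image.2 ⟨p.1, p.2, rfl⟩)).some
  let z : ∀ p : s, G (g p.1.1 p.1.2) ⟶ D.obj i₀ := fun p =>
    (π p.1.1 p.1.2 ≫ pullback.fst (c.ι.app p.1.1) a) ≫ D.map (u p)
  let w : ∀ p : s, G (g p.1.1 p.1.2) ⟶ X := fun p => π p.1.1 p.1.2 ≫ pullback.snd (c.ι.app p.1.1) a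
  have hz : ∀ p, z p ≫ c.ι.app i₀ = w p ≫ a := fun p => by
    simp only [z, w, Category.assoc, c.w, pullback.condition]
  have hpair : ∀ p q : s, ∃ (j : I) (φ : i₀ ⟶ j),
      (pullback.fst (w p) (w q) ≫ z p) ≫ D.map φ = (pullback.snd (w p) (w q) ≫ z q) ≫ D.map φ := fun p q =>
    exists_eq_stage hc (hX.2 _ _ (w p) (w q) (hG _) (hG _)) _ _ (by
      exact ((Category.assoc _ _ _).trans (congrArg (_ ≫ ·) (hz p))).trans ((pullback.condition_assoc _).trans ((Category.assoc _ _ _).trans (congrArg (_ ≫ ·) (hz q))).symm))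
  choose j φ hφ using hpair
  obtain ⟨k, T, hT⟩ := IsFiltered.sup_exists (insert i₀ (Finset.univ.image (fun pq : s × s => j pq.1 pq.2)))
    (Finset.univ.image (fun pq : s × s => (⟨i₀, j pq.1 pq.2, Finset.mem_insert_self _ _,
      Finset.mem_insert_of_mem (Finset.mem_image.2 ⟨pq, Finset.mem_univ _, rfl⟩), φ pq.1 pq.2⟩ :
        Σ' (X Y : I) (_ : X ∈ insert i₀ (Finset.univ.image (fun pq : s × s => j pq.1 pq.2)))
          (_ : Y ∈ insert i₀ (Finset.univ.image (fun pq : s × s => j pq.1 pq.2))), X ⟶ Y)))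
  let ψ : i₀ ⟶ k := T (Finset.mem_insert_self _ _)
  obtain ⟨b, hb⟩ := exists_glue hs (fun p : s => z p ≫ D.map ψ) (fun p q => by
    have e : φ p q ≫ T (Finset.mem_insert_of_mem (Finset.mem_image.2 ⟨(p, q), Finset.mem_univ _, rfl⟩)) = ψ :=
      hT _ _ (Finset.mem_image.2 ⟨(p, q), Finset.mem_univ _, rfl⟩)
    show pullback.fst (w p) (w q) ≫ _ = pullback.snd (w p) (w q) ≫ _
    have h := congrArg (fun m => m ≫ D.map (T (Finset.mem_insert_of_mem (Finset.mem_image.2 ⟨(p, q), Finset.mem_univ _, rfl⟩)))) (hφ p q)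
    simp only [Category.assoc] at h
    rw [← e, D.map_comp]
    exact h)
  refine ⟨k, b, hs _ _ _ fun p => ?_⟩
  rw [← Category.assoc, hb p, Category.assoc, c.w]
  exact hz p

theorem post_ι {D : I ⥤ Sh J} (X : Sh J) (i : I) (a : X ⟶ D.obj i) :
    colimit.post D (coyoneda.obj (op X)) (colimit.ι (D ⋙ coyoneda.obj (op X)) i a) = a ≫ colimit.ι D i :=
  ConcreteCategory.congr_hom (colimit.ι_post D (coyoneda.obj (op X)) i) a

theorem post_injective [IsFiltered I] (D : I ⥤ Sh J) {X : Sh J} (hX : IsQC X) :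
    Function.Injective (colimit.post D (coyoneda.obj (op X))) := by
  intro x y h
  obtain ⟨i, a, rfl⟩ := Types.jointly_surjective' x
  obtain ⟨j, b, rfl⟩ := Types.jointly_surjective' y
  rw [post_ι, post_ι] at h
  let k := IsFiltered.max i j
  have h' : (a ≫ D.map (IsFiltered.leftToMax i j)) ≫ colimit.ι D k =
      (b ≫ D.map (IsFiltered.rightToMax i j)) ≫ colimit.ι D k := by
    simp only [Category.assoc, colimit.w, k, h]
  obtain ⟨l, φ, hφ⟩ := exists_eq_stage (colimit.isColimit D) hX _ _ h'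
  refine (Types.FilteredColimit.colimit_eq_iff _).2 ⟨l, IsFiltered.leftToMax i j ≫ φ, IsFiltered.rightToMax i j ≫ φ, ?_⟩
  show a ≫ D.map (_ ≫ φ) = b ≫ D.map (_ ≫ φ)
  rw [D.map_comp, D.map_comp, ← Category.assoc, ← Category.assoc]
  exact hφ

theorem post_surjective [IsFiltered I] (D : I ⥤ Sh J) {α : Type*} {G : α → Sh J}
    (hG : ∀ a, IsQC (G a)) (hgen : Gen G) {X : Sh J} (hX : IsCoherent X) :
    Function.Surjective (colimit.post D (coyoneda.obj (op X))) := fun a => by
  obtain ⟨i, b, hb⟩ := exists_stage (colimit.isColimit D) hG hgen hX a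
  exact ⟨colimit.ι (D ⋙ coyoneda.obj (op X)) i b, (post_ι X i b).trans hb⟩

end Groth.Agent.ToposQC
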