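import Groth.Agent.ToposQC.Filt
import Groth.Agent.ToposQC.Coprod
import Mathlib.CategoryTheory.Limits.Shapes.Equalizers
import Mathlib.Data.Finset.Union

/-!
Objects of finite presentation of a sheaf topos.
-/

set_option autoImplicit false

universe w u

open CategoryTheory CategoryTheory.Limits Opposite

namespace Groth.Agent.ToposQC

open ToposFin

variable {C : Type u} [SmallCategory C] {J : GrothendieckTopology C}

theorem coherent_of_retract {X Q : Sh J} (i : X ⟶ Q) (p : Q ⟶ X) (h : i ≫ p = 𝟙 X) (hQ : IsCoherent Q) :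
    IsCoherent X := by
  haveI : IsSplitEpi p := ⟨⟨⟨i, h⟩⟩⟩
  haveI : IsSplitMono i := ⟨⟨⟨p, h⟩⟩⟩
  exact ⟨qc_of_epi p hQ.1, qs_of_mono i hQ.2⟩

theorem isFP_of_coherent {α : Type*} {G : α → Sh J} (hG : ∀ a, IsQC (G a)) (hgen : Gen G) {X : Sh J}
    (hX : IsCoherent X) : IsFP X := fun _ _ _ D => ⟨post_injective D hX.1, post_surjective D hG hgen hX⟩

theorem isFP_retract {α : Type*} {G : α → Sh J} (hG : ∀ a, IsQC (G a)) (hgen : Gen G) {X X₀ X₁ : Sh J}
    (a b : X₁ ⟶ X₀) (i : X ⟶ coequalizer a b) (p : coequalizer a b ⟶ X) (h : i ≫ p = 𝟙 X)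
    (h₀ : IsCoherent X₀) (h₁ : IsQC X₁) : IsFP X := by
  haveI : IsSplitEpi p := ⟨⟨⟨i, h⟩⟩⟩
  have hX : IsQC X := qc_of_epi p (qc_of_epi (coequalizer.π a b) h₀.1)
  refine fun I _ _ D => ⟨post_injective D hX, fun t => ?_⟩
  obtain ⟨k, m, hm⟩ := exists_stage (colimit.isColimit D) hG hgen h₀ (coequalizer.π a b ≫ p ≫ t)
  obtain ⟨l, φ, hφ⟩ := exists_eq_stage (colimit.isColimit D) h₁ (a ≫ m) (b ≫ m) (by
    rw [Category.assoc, Category.assoc, hm, coequalizer.condition_assoc])
  have e : a ≫ m ≫ D.map φ = b ≫ m ≫ D.map φ := by simpa using hφ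
  let d := coequalizer.desc (m ≫ D.map φ) e
  have hd : d ≫ colimit.ι D l = p ≫ t := by
    apply coequalizer.hom_ext
    rw [coequalizer.π_desc_assoc, Category.assoc, colimit.w]
    exact hm
  refine ⟨colimit.ι (D ⋙ coyoneda.obj (op X)) l (i ≫ d), (post_ι X l _).trans ?_⟩
  rw [Category.assoc, hd, ← Category.assoc, h, Category.id_comp]

/-- a class of objects stable under finite coproducts and isomorphisms, containing a generating family -/
structure PresClass (P : Sh J → Prop) : Prop where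
  sigma : ∀ (κ : Type u) [Finite κ] (F : κ → Sh J), (∀ k, P (F k)) → P (∐ F)
  gen : ∀ X : Sh J, ∃ (ι : Type u) (F : ι → Sh J) (π : ∀ i, F i ⟶ X), (∀ i, P (F i)) ∧ JE π

/-- every object is a filtered colimit of coequalizers of pairs in the class -/
theorem exists_presentation {P : Sh J → Prop} (hP : PresClass P) (X : Sh J) :
    ∃ (I : Type u) (_ : SmallCategory I) (_ : IsFiltered I) (D : I ⥤ Sh J) (c : Cocone D) (_ : IsColimit c),
      c.pt = X ∧ ∀ i, ∃ (X₀ X₁ : Sh J) (a b : X₁ ⟶ X₀), P X₀ ∧ P X₁ ∧ D.obj i = coequalizer a b := by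
  classical
  obtain ⟨ι, F, π, hF, hπ⟩ := hP.gen X
  choose κ R ρ hR hρ using fun p : ι × ι => hP.gen (pullback (π p.1) (π p.2))
  let K := Σ p : ι × ι, κ p
  let ends : Finset K → Finset ι := fun t => t.biUnion (fun k => {k.1.1, k.1.2})
  let I := Finset (ι ⊕ K)
  let sup : I → Finset ι := fun z => z.toLeft ∪ ends z.toRight
  have m1 : ∀ (z : I) (k : z.toRight), k.1.1.1 ∈ sup z := fun z k =>
    Finset.mem_union_right _ (Finset.mem_biUnion.2 ⟨k.1, k.2, by simp⟩)
  have m2 : ∀ (z : I) (k : z.toRight), k.1.1.2 ∈ sup z := fun z k =>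
    Finset.mem_union_right _ (Finset.mem_biUnion.2 ⟨k.1, k.2, by simp⟩)
  let A : I → Sh J := fun z => ∐ fun i : sup z => F i.1
  let B : I → Sh J := fun z => ∐ fun k : z.toRight => R k.1.1 k.1.2
  let ai : ∀ (z : I) (i : ι), i ∈ sup z → (F i ⟶ A z) := fun z i hi => Sigma.ι (fun i : sup z => F i.1) ⟨i, hi⟩
  let a : ∀ z, B z ⟶ A z := fun z => Sigma.desc fun k =>
    (ρ k.1.1 k.1.2 ≫ pullback.fst (π k.1.1.1) (π k.1.1.2)) ≫ ai z _ (m1 z k)
  let b : ∀ z, B z ⟶ A z := fun z => Sigma.desc fun k =>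
    (ρ k.1.1 k.1.2 ≫ pullback.snd (π k.1.1.1) (π k.1.1.2)) ≫ ai z _ (m2 z k)
  have hsub : ∀ {z z' : I}, (z ≤ z') → ∀ {i}, i ∈ sup z → i ∈ sup z' := fun {z z'} h {i} hi =>
    Finset.union_subset_union (Finset.toLeft_subset_toLeft h) (Finset.biUnion_subset_biUnion_of_subset_left _ (Finset.toRight_subset_toRight h)) hi
  let am' : ∀ {z z' : I}, (z ≤ z') → (A z ⟶ A z') := fun {z z'} h => Sigma.desc fun i => ai z' i.1 (hsub h i.2)
  have hai : ∀ {z z' : I} (h : z ≤ z') i (hi : i ∈ sup z), ai z i hi ≫ am' h = ai z' i (hsub h hi) := fun {z z'} h i hi =>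
    Sigma.ι_desc (fun i : sup z => ai z' i.1 (hsub h i.2)) ⟨i, hi⟩
  have ha : ∀ (z : I) (k : z.toRight) (W : Sh J) (m : A z ⟶ W),
      Sigma.ι (fun k : z.toRight => R k.1.1 k.1.2) k ≫ a z ≫ m =
        (ρ k.1.1 k.1.2 ≫ pullback.fst (π k.1.1.1) (π k.1.1.2)) ≫ ai z _ (m1 z k) ≫ m := fun z k W m =>
    (Category.assoc _ _ _).symm.trans ((congrArg (· ≫ m) (Sigma.ι_desc _ k)).trans (Category.assoc _ _ _))
  have hb : ∀ (z : I) (k : z.toRight) (W : Sh J) (m : A z ⟶ W),
      Sigma.ι (fun k : z.toRight => R k.1.1 k.1.2) k ≫ b z ≫ m =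
        (ρ k.1.1 k.1.2 ≫ pullback.snd (π k.1.1.1) (π k.1.1.2)) ≫ ai z _ (m2 z k) ≫ m := fun z k W m =>
    (Category.assoc _ _ _).symm.trans ((congrArg (· ≫ m) (Sigma.ι_desc _ k)).trans (Category.assoc _ _ _))
  have hrel : ∀ (z : I) (k : z.toRight) (W : Sh J) (m : A z ⟶ W), a z ≫ m = b z ≫ m →
      (ρ k.1.1 k.1.2 ≫ pullback.fst (π k.1.1.1) (π k.1.1.2)) ≫ ai z _ (m1 z k) ≫ m =
      (ρ k.1.1 k.1.2 ≫ pullback.snd (π k.1.1.1) (π k.1.1.2)) ≫ ai z _ (m2 z k) ≫ m := fun z k W m h =>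
    (ha z k W m).symm.trans ((congrArg (fun x => Sigma.ι (fun k : z.toRight => R k.1.1 k.1.2) k ≫ x) h).trans (hb z k W m))
  let D : I ⥤ Sh J :=
    { obj := fun z => coequalizer (a z) (b z)
      map := fun {z z'} h => coequalizer.desc (am' (leOfHom h) ≫ coequalizer.π (a z') (b z')) (Sigma.hom_ext _ _ fun k => by
        have hk : k.1 ∈ z'.toRight := Finset.toRight_subset_toRight (leOfHom h) k.2
        have e := hrel z' ⟨k.1, hk⟩ _ _ (coequalizer.condition (a z') (b z'))
        rw [ha, hb]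
        have e1 := hai (leOfHom h) _ (m1 z k)
        have e2 := hai (leOfHom h) _ (m2 z k)
        simp only [Category.assoc] at e ⊢
        rw [← Category.assoc (ai z _ (m1 z k)), e1, ← Category.assoc (ai z _ (m2 z k)), e2]
        exact e)
      map_id := fun z => by
        apply coequalizer.hom_ext
        refine (coequalizer.π_desc _ _).trans ?_
        rw [Category.comp_id]
        refine Sigma.hom_ext _ _ fun i => ?_
        rw [← Category.assoc]
        exact congrArg (· ≫ coequalizer.π (a z) (b z)) (hai (le_refl z) i.1 i.2)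
      map_comp := fun {x y z} f g => by
        apply coequalizer.hom_ext
        refine (coequalizer.π_desc _ _).trans ?_
        rw [coequalizer.π_desc_assoc, Category.assoc, coequalizer.π_desc]
        refine Sigma.hom_ext _ _ fun i => ?_
        rw [← Category.assoc, ← Category.assoc, show Sigma.ι (fun i : sup x => F i.1) i ≫ am' (leOfHom f) = _ from hai (leOfHom f) i.1 i.2]
        simp only [← Category.assoc]
        rw [hai (leOfHom g) i.1 _]
        exact congrArg (· ≫ coequalizer.π (a z) (b z)) (hai (leOfHom (f ≫ g)) i.1 i.2) }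
  have hp : ∀ z : I, a z ≫ (Sigma.desc fun i : sup z => π i.1) = b z ≫ (Sigma.desc fun i : sup z => π i.1) := fun z =>
    Sigma.hom_ext _ _ fun k => by
      rw [ha, hb]
      refine (congrArg (_ ≫ ·) (Sigma.ι_desc (fun i : sup z => π i.1) ⟨_, m1 z k⟩)).trans
        (Eq.trans ?_ (congrArg (_ ≫ ·) (Sigma.ι_desc (fun i : sup z => π i.1) ⟨_, m2 z k⟩)).symm)
      simp only [Category.assoc, pullback.condition]
  let c : Cocone D :=
    { pt := X
      ι :=
        { app := fun z => coequalizer.desc (Sigma.desc fun i : sup z => π i.1) (hp z)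
          naturality := fun z z' h => by
            apply coequalizer.hom_ext
            show coequalizer.π (a z) (b z) ≫ coequalizer.desc _ _ ≫ coequalizer.desc _ _ = coequalizer.π (a z) (b z) ≫ coequalizer.desc _ _ ≫ 𝟙 X
            rw [coequalizer.π_desc_assoc, Category.assoc, coequalizer.π_desc, Category.comp_id, coequalizer.π_desc]
            refine Sigma.hom_ext _ _ fun i => ?_
            rw [← Category.assoc, show Sigma.ι (fun i : sup z => F i.1) i ≫ am' (leOfHom h) = _ from hai (leOfHom h) i.1 i.2]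
            exact (Sigma.ι_desc (fun i : sup z' => π i.1) ⟨i.1, _⟩).trans (Sigma.ι_desc (fun i : sup z => π i.1) i).symm } }
  have hcπ : ∀ z i (hi : i ∈ sup z), ai z i hi ≫ coequalizer.π (a z) (b z) ≫ c.ι.app z = π i := fun z i hi => by
    rw [coequalizer.π_desc]
    exact Sigma.ι_desc (fun i : sup z => π i.1) ⟨i, hi⟩
  have hone : ∀ i : ι, i ∈ sup ({Sum.inl i} : I) := fun i => Finset.mem_union_left _ (Finset.mem_toLeft.2 (Finset.mem_singleton_self _))
  have hcw : ∀ (s : Cocone D) (z : I) i (hi : i ∈ sup z),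
      ai ({Sum.inl i} : I) i (hone i) ≫ coequalizer.π _ _ ≫ s.ι.app _ = ai z i hi ≫ coequalizer.π _ _ ≫ s.ι.app z := by
    intro s z i hi
    let y : I := (sup z).disjSum z.toRight
    have h1 : ({Sum.inl i} : I) ≤ y := Finset.singleton_subset_iff.2 (Finset.inl_mem_disjSum.2 hi)
    have h2 : z ≤ y := fun x hx => by
      rcases x with x | x
      · exact Finset.inl_mem_disjSum.2 (Finset.mem_union_left _ (Finset.mem_toLeft.2 hx))
      · exact Finset.inr_mem_disjSum.2 (Finset.mem_toRight.2 hx)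
    have e : ∀ {w : I} (h : w ≤ y) (hw : i ∈ sup w),
        ai w i hw ≫ coequalizer.π _ _ ≫ s.ι.app w = ai y i (hsub h hw) ≫ coequalizer.π _ _ ≫ s.ι.app y := fun {w} h hw => by
      rw [← s.w (homOfLE h), coequalizer.π_desc_assoc, Category.assoc, ← Category.assoc (ai w i hw), hai h i hw]
    exact (e h1 (hone i)).trans (e h2 hi).symm
  have glue : ∀ s : Cocone D, ∃ d : X ⟶ s.pt, ∀ i, π i ≫ d =
      ai ({Sum.inl i} : I) i (hone i) ≫ coequalizer.π _ _ ≫ s.ι.app _ := fun s =>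
    exists_glue hπ _ fun i j => hρ (i, j) _ _ _ fun l => by
      let k : K := ⟨(i, j), l⟩
      let z : I := {Sum.inr k}
      rw [hcw s z i (m1 z ⟨k, Finset.mem_toRight.2 (Finset.mem_singleton_self _)⟩), hcw s z j (m2 z ⟨k, Finset.mem_toRight.2 (Finset.mem_singleton_self _)⟩),
        ← Category.assoc, ← Category.assoc (ρ (i, j) l)]
      exact hrel z ⟨k, Finset.mem_toRight.2 (Finset.mem_singleton_self _)⟩ _ (coequalizer.π (a z) (b z) ≫ s.ι.app z) (coequalizer.condition_assoc _ _ _)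
  choose d hd using glue
  have hc : IsColimit c :=
    { desc := d
      fac := fun s z => coequalizer.hom_ext (Sigma.hom_ext _ _ fun i => by
        have e1 := hcπ z i.1 i.2
        simp only [← Category.assoc] at e1 ⊢
        refine (congrArg (· ≫ d s) e1).trans ?_
        rw [hd s i.1, hcw s z i.1 i.2, Category.assoc])
      uniq := fun s m hm => hπ _ _ _ fun i => by
        rw [hd s i, ← hm, ← hcπ _ i (hone i)]
        simp only [Category.assoc] }
  exact ⟨I, inferInstance, inferInstance, D, c, hc, rfl, fun z => ⟨A z, B z, a z, b z,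
    hP.sigma _ _ (fun i => hF _), hP.sigma _ _ (fun k => hR _ _), rfl⟩⟩

theorem coherent_sigma (κ : Type u) [Finite κ] (F : κ → Sh J) (h : ∀ k, IsCoherent (F k)) : IsCoherent (∐ F) := by
  haveI := Fintype.ofFinite κ
  exact ⟨(qc_cofan_iff _ (coproductIsCoproduct F)).2 ⟨fun k => (h k).1, Finset.univ, fun i hi => absurd (Finset.mem_univ i) hi⟩,
    (qs_cofan_iff _ (coproductIsCoproduct F)).2 fun k => (h k).2⟩

theorem presClass_coherent (hE : HasCoherentGenerators J) : PresClass (IsCoherent (J := J)) :=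
  ⟨fun κ _ F h => coherent_sigma κ F h, fun X => by
    obtain ⟨ι, F, π, hF, hπ⟩ := hE X
    exact ⟨ι, F, π, hF, (je_iff_epi π).1 hπ⟩⟩

theorem retract_of_isFP {P : Sh J → Prop} (hP : PresClass P) {X : Sh J} (hX : IsFP X) :
    ∃ (X₀ X₁ : Sh J) (a b : X₁ ⟶ X₀) (i : X ⟶ coequalizer a b) (p : coequalizer a b ⟶ X),
      P X₀ ∧ P X₁ ∧ i ≫ p = 𝟙 X := by
  obtain ⟨I, _, _, D, c, hc, hpt, hD⟩ := exists_presentation hP X
  subst hpt
  let e := (colimit.isColimit D).coconePointUniqueUpToIso hc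
  obtain ⟨t, ht⟩ := (hX I D).2 e.inv
  obtain ⟨k, m, rfl⟩ := Types.jointly_surjective' t
  rw [post_ι] at ht
  obtain ⟨X₀, X₁, a, b, h₀, h₁, hk⟩ := hD k
  refine ⟨X₀, X₁, a, b, m ≫ eqToHom hk, eqToHom hk.symm ≫ c.ι.app k, h₀, h₁, ?_⟩
  rw [Category.assoc, eqToHom_trans_assoc, eqToHom_refl, Category.id_comp,
    ← IsColimit.comp_coconePointUniqueUpToIso_hom (colimit.isColimit D) hc k]
  exact ((Category.assoc _ _ _).symm.trans (congrArg (· ≫ e.hom) ht)).trans e.inv_hom_id

end Groth.Agent.ToposQC
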