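import Groth.Agent.ToposQC.Obj
import Groth.Prelude.Def_ToposFin2
import Mathlib.CategoryTheory.Limits.Preserves.Shapes.Pullbacks

/-!
Algebraic topoi and inverse image functors.
-/

set_option autoImplicit false

universe w u

open CategoryTheory CategoryTheory.Limits Opposite

namespace Groth.Agent.ToposQC

open ToposFin

variable {C : Type u} [SmallCategory C] {J : GrothendieckTopology C}

theorem gen_of_generating {S : Set (Sh J)} (h : IsGenerating S) : Gen (fun K : S => (K : Sh J)) := fun X => by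
  obtain ⟨ι, F, π, hF, hπ⟩ := h X
  exact ⟨ι, fun i => ⟨F i, hF i⟩, π, hπ⟩

theorem coherent_of_closed {S : Set (Sh J)} (hqc : ∀ K ∈ S, IsQC K) (hgen : IsGenerating S)
    (hpb : ClosedUnderPullbacks S) {K : Sh J} (hK : K ∈ S) : IsCoherent K := by
  refine ⟨hqc K hK, qs_of_gen (fun a : S => hqc a a.2) (gen_of_generating hgen) K fun a s =>
    qcHom_of_gen (fun b : S => hqc b b.2) (gen_of_generating hgen) s fun b t => ?_⟩
  obtain ⟨P, p, q, hP, sq⟩ := hpb s t a.2 b.2 hK
  exact qc_of_iso sq.isoPullback (hqc P hP)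

theorem qs_prod {S : Set (Sh J)} (hqc : ∀ K ∈ S, IsQC K) (hgen : IsGenerating S) (hpb : ClosedUnderPullbacks S)
    (heq : ClosedUnderEqualizers S) {K L : Sh J} (hK : K ∈ S) (hL : L ∈ S) : IsQS (K ⨯ L) := by
  refine qs_of_gen (fun a : S => hqc a a.2) (gen_of_generating hgen) _ fun a s =>
    qcHom_of_gen (fun b : S => hqc b b.2) (gen_of_generating hgen) s fun b t => ?_
  obtain ⟨P, p, q, hP, sq⟩ := hpb (s ≫ prod.fst) (t ≫ prod.fst) a.2 b.2 hK
  obtain ⟨E, e, we, hE, ⟨he⟩⟩ := heq (p ≫ s ≫ prod.snd) (q ≫ t ≫ prod.snd) hP hL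
  have hw : (e ≫ p) ≫ s = (e ≫ q) ≫ t := by
    apply prod.hom_ext
    · simp only [Category.assoc, sq.w]
    · simpa only [Category.assoc] using we
  have h1 : ∀ W : PullbackCone s t, W.fst ≫ s ≫ prod.fst = W.snd ≫ t ≫ prod.fst := fun W => by
    rw [← Category.assoc, W.condition, Category.assoc]
  refine qc_of_iso (IsPullback.mk ⟨hw⟩ ⟨PullbackCone.IsLimit.mk _
    (fun W => Fork.IsLimit.lift he (sq.lift W.fst W.snd (h1 W)) (by
      rw [sq.lift_fst_assoc, sq.lift_snd_assoc, ← Category.assoc, W.condition, Category.assoc])) (fun W => ?_)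
    (fun W => ?_) fun W l h2 h3 => ?_⟩).isoPullback (hqc E hE)
  · exact ((Category.assoc _ _ _).symm.trans (congrArg (· ≫ p) (Fork.IsLimit.lift_ι' he _ _))).trans (sq.lift_fst _ _ _)
  · exact ((Category.assoc _ _ _).symm.trans (congrArg (· ≫ q) (Fork.IsLimit.lift_ι' he _ _))).trans (sq.lift_snd _ _ _)
  · refine Fork.IsLimit.hom_ext he ?_
    refine Eq.trans ?_ (Fork.IsLimit.lift_ι' he _ _).symm
    show l ≫ e = _
    exact sq.hom_ext (by rw [sq.lift_fst, Category.assoc]; exact h2) (by rw [sq.lift_snd, Category.assoc]; exact h3)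

/-- in an algebraic topos every morphism out of a quasi-separated object is quasi-separated -/
theorem qsHom_of_qs (hE : IsAlgebraic J) {X Y : Sh J} (f : X ⟶ Y) (hX : IsQS X) : IsQSHom f := by
  obtain ⟨S, hqc, hgen, hpb, heq⟩ := hE
  obtain ⟨ι, F, π, hF, hπ⟩ := hgen X
  refine qsHom_of_pairs (fun a : S => hqc a a.2) (gen_of_generating hgen) f hX hπ (fun i => hqc _ (hF i)) fun i j => ?_
  let m := prod.lift (pullback.fst (π i ≫ f) (π j ≫ f)) (pullback.snd (π i ≫ f) (π j ≫ f))
  haveI : Mono m := ⟨fun u v e => by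
    have h1 := congrArg (fun t => t ≫ prod.fst) e
    have h2 := congrArg (fun t => t ≫ prod.snd) e
    have e1 : m ≫ prod.fst = pullback.fst (π i ≫ f) (π j ≫ f) := prod.lift_fst _ _
    have e2 : m ≫ prod.snd = pullback.snd (π i ≫ f) (π j ≫ f) := prod.lift_snd _ _
    simp only [Category.assoc, e1] at h1
    simp only [Category.assoc, e2] at h2
    exact pullback.hom_ext h1 h2⟩
  exact qs_of_mono m (qs_prod hqc hgen hpb heq (hF i) (hF j))

section adj

variable {D : Type u} [SmallCategory D] {K : GrothendieckTopology D} {F : Sh K ⥤ Sh J} {R : Sh J ⥤ Sh K}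

theorem je_map (adj : F ⊣ R) {X : Sh K} {ι : Type*} {G : ι → Sh K} {π : ∀ i, G i ⟶ X} (h : JE π) :
    JE (fun i => F.map (π i)) := fun Z a b e => by
  apply (adj.homEquiv X Z).injective
  exact h _ _ _ fun i => by rw [← adj.homEquiv_naturality_left, ← adj.homEquiv_naturality_left, e i]

theorem qc_map (adj : F ⊣ R) {α : Type*} {G : α → Sh K} (hgen : Gen G) (h : ∀ a, IsQC (F.obj (G a))) {X : Sh K}
    (hX : IsQC X) : IsQC (F.obj X) := by
  obtain ⟨ι, a, π, hπ⟩ := hgen X
  obtain ⟨s, hs⟩ := qc_exists_finite hX hπ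
  exact qc_of_finite (je_map adj hs) fun i => h _

theorem qs_map (adj : F ⊣ R) [PreservesFiniteLimits F] (hE : HasQCGenerators J) {α : Type*} {G : α → Sh K}
    (hG : ∀ a, IsQC (G a)) (hgen : Gen G) (h : ∀ a, IsCoherent (F.obj (G a))) {X : Sh K} (hX : IsQS X) :
    IsQS (F.obj X) := by
  obtain ⟨ι, a, π, hπ⟩ := hgen X
  refine qs_of_cover (fun L => L.2) (gen_qc hE) (je_map adj hπ) (fun i => (h _).2) fun i =>
    qcHom_of_pairs (fun L => L.2) (gen_qc hE) (je_map adj hπ) (fun i => (h _).2) (fun i j => ?_) i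
  exact qc_of_iso ((IsPullback.of_hasPullback (π i) (π j)).map F).isoPullback
    (qc_map adj hgen (fun a => (h a).1) (hX _ _ _ _ (hG _) (hG _)))

end adj

end Groth.Agent.ToposQC
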