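import Groth.Agent.ToposQC.Canon
import Groth.Prelude.Def_SGA4a
import Mathlib.CategoryTheory.Sites.EffectiveEpimorphic
import Mathlib.CategoryTheory.Limits.Preserves.Shapes.Equalizers

/-!
Effective universal equivalence relations and the canonical topology.
-/

set_option autoImplicit false

universe u

open CategoryTheory CategoryTheory.Limits Opposite

namespace Groth.Agent.ToposQC.CanonQuot

open ToposFin Groth.Agent.ToposQC Groth.Agent.ToposQC.Canon

variable {C : Type u} [SmallCategory C]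

theorem mem_of_effectiveEpi [HasPullbacks C] {X B : C} (π : X ⟶ B)
    (h : ∀ (B' : C) (g : B' ⟶ B), EffectiveEpi (pullback.snd π g)) :
    Sieve.ofArrows (fun _ : PUnit.{u + 1} => X) (fun _ => π) ∈ Sheaf.canonicalTopology C B := by
  refine Sheaf.mem_finestTopology_of_forall_isSheafFor ?_
  rintro _ ⟨T, rfl⟩ W f
  haveI : (Presieve.singleton π).HasPullbacks f := ⟨fun hg => by obtain ⟨⟩ := hg; infer_instance⟩
  rw [Sieve.ofArrows, Presieve.ofArrows_pUnit, ← Sieve.pullbackArrows_comm, ← Presieve.isSheafFor_iff_generate,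
    Presieve.pullback_singleton]
  exact (Presieve.EffectiveEpimorphic.iff_forall_isSheafFor_yoneda _).1
    ((Sieve.effectiveEpimorphic_singleton _).2 (h W f)) T

theorem isColimit_map_of_effective [HasPullbacks C] {R X B : C} {p₁ p₂ : R ⟶ X} {π : X ⟶ B}
    (sq : IsPullback p₁ p₂ π π) (h : ∀ (B' : C) (g : B' ⟶ B), EffectiveEpi (pullback.snd π g)) :
    Nonempty (IsColimit ((E C).mapCocone (Cofork.ofπ π sq.w))) := by
  have hje := je_of_mem (fun _ : PUnit.{u + 1} => π) (mem_of_effectiveEpi π h)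
  refine ⟨(isColimitMapCoconeCoforkEquiv (E C) sq.w).symm (Cofork.IsColimit.ofExistsUnique fun s => ?_)⟩
  obtain ⟨d, hd⟩ := exists_glue hje (fun _ => s.π) fun _ _ => by
    rw [← cancel_epi (sq.map (E C)).isoPullback.hom, IsPullback.isoPullback_hom_fst_assoc,
      IsPullback.isoPullback_hom_snd_assoc]
    exact s.condition
  exact ⟨d, hd PUnit.unit, fun y hy => hje _ _ _ fun _ => hy.trans (hd PUnit.unit).symm⟩

theorem effectiveEpi_of_map {P B : C} (q : P ⟶ B) [HasPullback q q] [Epi ((E C).map q)] : EffectiveEpi q := by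
  haveI := full (C := C)
  haveI := faithful (C := C)
  have hje := je_single.{u} ((E C).map q)
  have key : ∀ {T : C} (e : P ⟶ T), (∀ {Z : C} (g₁ g₂ : Z ⟶ P), g₁ ≫ q = g₂ ≫ q → g₁ ≫ e = g₂ ≫ e) →
      ∃! m : B ⟶ T, q ≫ m = e := fun {T} e he => by
    obtain ⟨d, hd⟩ := exists_glue hje (fun _ => (E C).map e) fun _ _ => by
      rw [← cancel_epi ((IsPullback.of_hasPullback q q).map (E C)).isoPullback.hom,
        IsPullback.isoPullback_hom_fst_assoc, IsPullback.isoPullback_hom_snd_assoc, ← Functor.map_comp,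
        ← Functor.map_comp, he _ _ pullback.condition]
    refine ⟨(E C).preimage d, (E C).map_injective ?_, fun y hy => (E C).map_injective ?_⟩
    · rw [Functor.map_comp, Functor.map_preimage]
      exact hd PUnit.unit
    · rw [Functor.map_preimage, ← cancel_epi ((E C).map q), ← Functor.map_comp, hy]
      exact (hd PUnit.unit).symm
  exact ⟨⟨{ desc := fun e he => (key e he).choose
            fac := fun e he => (key e he).choose_spec.1
            uniq := fun e he m hm => (key e he).choose_spec.2 m hm }⟩⟩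

theorem el_map_toSheafify {J : GrothendieckTopology C} {U V : C} (h : V ⟶ U) {Q : Cᵒᵖ ⥤ Type u}
    (x : Q.obj (op U)) :
    (presheafToSheaf J (Type u)).map (yoneda.map h) ≫
        (el U ((presheafToSheaf J (Type u)).obj Q)).symm ((toSheafify J Q).app (op U) x) =
      (el V ((presheafToSheaf J (Type u)).obj Q)).symm ((toSheafify J Q).app (op V) (Q.map h.op x)) := by
  rw [el_symm_map]
  exact congrArg _ (NatTrans.naturality_apply (toSheafify J Q) h.op x).symm

/-- the relation on generalized points -/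
def Rel {R X : C} (p₁ p₂ : R ⟶ X) (T : C) (a b : T ⟶ X) : Prop := ∃ f : T ⟶ R, f ≫ p₁ = a ∧ f ≫ p₂ = b

/-- the quotient presheaf -/
def quotPsh {R X : C} (p₁ p₂ : R ⟶ X) : Cᵒᵖ ⥤ Type u where
  obj U := Quot (Rel p₁ p₂ U.unop)
  map {U V} g := ↾(Quot.map (fun a => g.unop ≫ a) fun a b ⟨f, hf₁, hf₂⟩ =>
    ⟨g.unop ≫ f, by rw [Category.assoc, hf₁], by rw [Category.assoc, hf₂]⟩)
  map_id U := by
    ext z
    induction z using Quot.ind with
    | _ a => exact congrArg (Quot.mk _) (Category.id_comp a)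
  map_comp {U V W} g g' := by
    ext z
    induction z using Quot.ind with
    | _ a => exact congrArg (Quot.mk _) (Category.assoc g'.unop g.unop a)

/-- classes -/
def cls {R X : C} (p₁ p₂ : R ⟶ X) {T : C} (a : T ⟶ X) : (quotPsh p₁ p₂).obj (op T) := Quot.mk _ a

theorem cls_map {R X : C} (p₁ p₂ : R ⟶ X) {T V : C} (g : V ⟶ T) (a : T ⟶ X) :
    (quotPsh p₁ p₂).map g.op (cls p₁ p₂ a) = cls p₁ p₂ (g ≫ a) := rfl

theorem cls_exact {R X : C} {p₁ p₂ : R ⟶ X} (hR : SGA4.IsEquivRel p₁ p₂) {T : C} {a b : T ⟶ X}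
    (h : cls p₁ p₂ a = cls p₁ p₂ b) : ∃ f : T ⟶ R, f ≫ p₁ = a ∧ f ≫ p₂ = b :=
  ((hR T).2.eqvGen_iff).1 (Quot.eqvGen_exact h)

theorem isPullback_of_isColimit_map {R X : C} {p₁ p₂ : R ⟶ X} (hR : SGA4.IsEquivRel p₁ p₂) {B : C} {π : X ⟶ B}
    (w : p₁ ≫ π = p₂ ≫ π)
    (hc : IsColimit (Cofork.ofπ ((E C).map π) (by rw [← Functor.map_comp, w, Functor.map_comp]) :
      Cofork ((E C).map p₁) ((E C).map p₂))) :
    IsPullback p₁ p₂ π π := by
  haveI := full (C := C)
  haveI := faithful (C := C)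
  let J := Sheaf.canonicalTopology C
  let Q := quotPsh p₁ p₂
  have hy : ∀ Z : C, Presieve.IsSheaf J (yoneda.obj Z) := Sheaf.isSheaf_yoneda_obj
  have loc : ∀ {T : C} (a b : T ⟶ X), a ≫ π = b ≫ π → ∃ f : T ⟶ R, f ≫ p₁ = a ∧ f ≫ p₂ = b := by
    intro T a b hab
    let hcl : (E C).obj X ⟶ (presheafToSheaf J (Type u)).obj Q :=
      (el X _).symm ((toSheafify J Q).app (op X) (cls p₁ p₂ (𝟙 X)))
    have hcomp : ∀ {V : C} (g : V ⟶ X), (E C).map g ≫ hcl =
        (el V _).symm ((toSheafify J Q).app (op V) (cls p₁ p₂ g)) := fun {V} g => by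
      have h := el_map_toSheafify (J := J) (Q := Q) g (cls p₁ p₂ (𝟙 X))
      rw [cls_map, Category.comp_id] at h
      exact h
    obtain ⟨d, hd⟩ := Cofork.IsColimit.desc' hc hcl (by
      rw [hcomp, hcomp]
      rw [show cls p₁ p₂ p₁ = cls p₁ p₂ p₂ from Quot.sound ⟨𝟙 R, Category.id_comp _, Category.id_comp _⟩])
    have heq : (E C).map a ≫ hcl = (E C).map b ≫ hcl := by
      rw [← hd]
      show (E C).map a ≫ (E C).map π ≫ d = (E C).map b ≫ (E C).map π ≫ d
      rw [← Category.assoc, ← Category.assoc, ← Functor.map_comp, ← Functor.map_comp, hab]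
    rw [hcomp, hcomp] at heq
    have hS := Presheaf.equalizerSieve_mem J (toSheafify J Q) _ _ ((el T _).symm.injective heq)
    let x : ∀ {V : C} (g : V ⟶ T), Presheaf.equalizerSieve (F := Q) (X := op T) (cls p₁ p₂ a) (cls p₁ p₂ b) g →
        ∃ f : V ⟶ R, f ≫ p₁ = g ≫ a ∧ f ≫ p₂ = g ≫ b := fun {V} g hg => by
      exact cls_exact hR hg
    choose xf hx₁ hx₂ using @x
    have hcompat : Presieve.FamilyOfElements.Compatible (P := yoneda.obj R) (fun V g hg => xf g hg) := by
      intro V₁ V₂ W g₁ g₂ f₁ f₂ h₁ h₂ e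
      refine (hR W).1 (Prod.ext ?_ ?_)
      · show (g₁ ≫ xf f₁ h₁) ≫ p₁ = (g₂ ≫ xf f₂ h₂) ≫ p₁
        rw [Category.assoc, Category.assoc, hx₁, hx₁, reassoc_of% e]
      · show (g₁ ≫ xf f₁ h₁) ≫ p₂ = (g₂ ≫ xf f₂ h₂) ≫ p₂
        rw [Category.assoc, Category.assoc, hx₂, hx₂, reassoc_of% e]
    let f : T ⟶ R := (hy R _ hS).amalgamate _ hcompat
    have hf : ∀ {V : C} (g : V ⟶ T) hg, g ≫ f = xf g hg := fun g hg => (hy R _ hS).valid_glue hcompat g hg
    refine ⟨f, (hy X _ hS).isSeparatedFor.ext fun V g hg => ?_, (hy X _ hS).isSeparatedFor.ext fun V g hg => ?_⟩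
    · show g ≫ f ≫ p₁ = g ≫ a
      rw [← Category.assoc, hf g hg, hx₁]
    · show g ≫ f ≫ p₂ = g ≫ b
      rw [← Category.assoc, hf g hg, hx₂]
  refine IsPullback.of_isLimit' ⟨w⟩ (PullbackCone.IsLimit.mk w (fun s => (loc s.fst s.snd s.condition).choose)
    (fun s => (loc s.fst s.snd s.condition).choose_spec.1) (fun s => (loc s.fst s.snd s.condition).choose_spec.2)
    fun s m hm₁ hm₂ => (hR s.pt).1 (Prod.ext ?_ ?_))
  · exact hm₁.trans (loc s.fst s.snd s.condition).choose_spec.1.symm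
  · exact hm₂.trans (loc s.fst s.snd s.condition).choose_spec.2.symm

theorem main [HasPullbacks C] {R X : C} (p₁ p₂ : R ⟶ X) (hR : SGA4.IsEquivRel p₁ p₂) (c : Cofork p₁ p₂)
    (hc : IsColimit c) :
    SGA4.IsEffectiveUniversalEquivRel p₁ p₂ ↔ Nonempty (IsColimit ((E C).mapCocone c)) := by
  obtain ⟨δ, hδ₁, hδ₂⟩ := (hR X).2.refl (𝟙 X)
  have diag : ∀ {Z : C} {h k : X ⟶ Z}, p₁ ≫ h = p₂ ≫ k → h = k := fun {Z h k} e => by
    have := congrArg (δ ≫ ·) e
    simpa [reassoc_of% hδ₁, reassoc_of% hδ₂] using this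
  constructor
  · rintro ⟨B, π, sq, po, h⟩
    let hc' : IsColimit (Cofork.ofπ π sq.w) := Cofork.IsColimit.ofExistsUnique fun s =>
      ⟨po.desc s.π s.π s.condition, po.inl_desc _ _ _, fun y hy =>
        po.hom_ext (hy.trans (po.inl_desc _ _ _).symm) (hy.trans (po.inr_desc _ _ _).symm)⟩
    obtain ⟨hE⟩ := isColimit_map_of_effective sq h
    exact ⟨hE.ofIsoColimit ((Cocone.functoriality _ (E C)).mapIso (hc'.uniqueUpToIso hc))⟩
  · rintro ⟨hE⟩
    let hE' := isColimitMapCoconeCoforkEquiv (E C) c.condition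
      (hE.ofIsoColimit ((Cocone.functoriality _ (E C)).mapIso (Cofork.isoCoforkOfπ c)))
    haveI : Epi ((E C).map c.π) := epi_of_isColimit_cofork hE'
    refine ⟨c.pt, c.π, isPullback_of_isColimit_map hR c.condition hE', ?_, fun B' g => ?_⟩
    · refine IsPushout.of_isColimit' ⟨c.condition⟩ (PushoutCocone.IsColimit.mk c.condition
        (fun s => (Cofork.IsColimit.desc' hc s.inl (by rw [s.condition, diag s.condition])).1)
        (fun s => (Cofork.IsColimit.desc' hc s.inl (by rw [s.condition, diag s.condition])).2)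
        (fun s => ((Cofork.IsColimit.desc' hc s.inl (by rw [s.condition, diag s.condition])).2).trans
          (diag s.condition))
        fun s m hm _ => Cofork.IsColimit.hom_ext hc
          (hm.trans (Cofork.IsColimit.desc' hc s.inl (by rw [s.condition, diag s.condition])).2.symm))
    · haveI : Epi ((E C).map (pullback.snd c.π g)) :=
        epi_of_isPullback ((IsPullback.of_hasPullback c.π g).map (E C))
      exact effectiveEpi_of_map _

end Groth.Agent.ToposQC.CanonQuot
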