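import Groth.Agent.ToposQC.CofanIff
import Mathlib.CategoryTheory.Sites.Canonical
import Mathlib.CategoryTheory.Limits.VanKampen

/-!
Coproducts in a small category and the canonical topology.
-/

set_option autoImplicit false

universe w u

open CategoryTheory CategoryTheory.Limits Opposite

namespace Groth.Agent.ToposQC.Canon

open ToposFin Groth.Agent.ToposQC

variable (C : Type u) [SmallCategory C]

/-- representables in sheaves for the canonical topology -/
noncomputable abbrev E : C ⥤ Sheaf (Sheaf.canonicalTopology C) (Type u) :=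
  yoneda ⋙ presheafToSheaf (Sheaf.canonicalTopology C) (Type u)

noncomputable def eIso : (Sheaf.canonicalTopology C).yoneda ≅ E C :=
  ((Sheaf.canonicalTopology C).yoneda.rightUnitor).symm ≪≫
    Functor.isoWhiskerLeft (Sheaf.canonicalTopology C).yoneda
      (asIso (sheafificationAdjunction (Sheaf.canonicalTopology C) (Type u)).counit).symm

noncomputable def eFF : (E C).FullyFaithful :=
  (Sheaf.canonicalTopology C).yonedaFullyFaithful.ofIso (eIso C)

variable {C}

theorem full : (E C).Full := (eFF C).full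

theorem faithful : (E C).Faithful := (eFF C).faithful

/-- covering families of the canonical topology give jointly epimorphic families of representables -/
theorem je_of_mem {X : C} {ι : Type u} {Y : ι → C} (s : ∀ i, Y i ⟶ X)
    (h : Sieve.ofArrows Y s ∈ Sheaf.canonicalTopology C X) : JE (fun i => (E C).map (s i)) := fun Z a b e => by
  refine (el X Z).injective ?_
  have hZ := ((isSheaf_iff_isSheaf_of_type _ Z.obj).1 Z.property _ h).isSeparatedFor
  refine hZ.ext fun V f hf => ?_
  obtain ⟨W, g, _, ⟨i⟩, rfl⟩ := hf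
  rw [op_comp, FunctorToTypes.map_comp_apply, FunctorToTypes.map_comp_apply]
  simp only [← el_map]
  exact congrArg _ (congrArg _ (e i))

theorem null_of_bot_mem {W : C} (h : (⊥ : Sieve W) ∈ Sheaf.canonicalTopology C W) : Null ((E C).obj W) :=
  fun Z a b => (el W Z).injective
    (((isSheaf_iff_isSheaf_of_type _ Z.obj).1 Z.property _ h).isSeparatedFor.ext fun _ _ hf => hf.elim)

theorem cofan_colimit_of_mapped {X : C} {ι : Type u} {Y : ι → C} (s : ∀ i, Y i ⟶ X)
    (h : IsColimit (Cofan.mk ((E C).obj X) fun i => (E C).map (s i))) : Nonempty (IsColimit (Cofan.mk X s)) := by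
  haveI := full (C := C)
  haveI := faithful (C := C)
  exact ⟨isColimitOfIsColimitCofanMkObj (E C) Y s h⟩

theorem initial_of_null {W : C} (h : Null ((E C).obj W)) : Nonempty (IsInitial W) := by
  haveI := full (C := C)
  haveI := faithful (C := C)
  exact ⟨IsInitial.ofUniqueHom (fun Z => (E C).preimage (exists_hom_of_null h ((E C).obj Z)).some)
    fun Z m => (E C).map_injective (h _ _ _)⟩

variable {X : C} {ι : Type u} (Y : ι → C) (s : ∀ i, Y i ⟶ X) [∀ (i : ι) (Z : C) (g : Z ⟶ X), HasPullback (s i) g]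

theorem mp (hc : IsColimit (Cofan.mk ((E C).obj X) fun i => (E C).map (s i))) :
    Nonempty (IsColimit (Cofan.mk X s)) ∧ CoproductDisjoint Y ∧ IsUniversalColimit (Cofan.mk X s) := by
  haveI := full (C := C)
  haveI := faithful (C := C)
  obtain ⟨hC⟩ := cofan_colimit_of_mapped s hc
  obtain ⟨hje, hm, hd⟩ := (isColimit_cofan_iff fun i => (E C).map (s i)).1 ⟨hc⟩
  haveI hms : ∀ i, Mono ((Cofan.mk X s).inj i) := fun i =>
    haveI := hm i
    (E C).mono_of_mono_map (f := s i) inferInstance
  have hnull : ∀ {i j : ι}, i ≠ j → Nonempty (IsInitial (pullback (s i) (s j))) := fun {i j} hij => by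
    refine initial_of_null ?_
    exact null_of_map (pullback.lift ((E C).map (pullback.fst (s i) (s j))) ((E C).map (pullback.snd (s i) (s j)))
      (by rw [← Functor.map_comp, pullback.condition, Functor.map_comp])) (hd i j hij)
  refine ⟨⟨hC⟩, CoproductDisjoint.of_cofan hC (fun {i j} _ => pullback.cone (s i) (s j))
    (fun {i j} _ => pullback.isLimit (s i) (s j)) (fun {i j} hij => (hnull hij).some), ?_⟩
  intro F' c' α f w _ sq
  have sq' : ∀ i, IsPullback ((E C).map (α.app ⟨i⟩)) ((E C).map (c'.ι.app ⟨i⟩)) ((E C).map (s i)) ((E C).map f) :=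
    fun i => ((sq ⟨i⟩).flip).map (E C)
  obtain ⟨hc'⟩ := (isColimit_cofan_iff fun i => (E C).map (c'.ι.app ⟨i⟩)).2 ⟨je_pullback hje ((E C).map f) (fun i => (E C).map (α.app ⟨i⟩)) _ sq',
    fun i => haveI := hm i; MorphismProperty.of_isPullback (P := .monomorphisms _) (sq' i) (hm i),
    fun i j hij => null_of_map (pullback.lift (pullback.fst _ _ ≫ (E C).map (α.app ⟨i⟩))
      (pullback.snd _ _ ≫ (E C).map (α.app ⟨j⟩)) (by
        rw [Category.assoc, Category.assoc, (sq' i).w, (sq' j).w, pullback.condition_assoc])) (hd i j hij)⟩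
  let hE : IsColimit ((E C).mapCocone c') :=
    { desc := fun t => hc'.desc (Cofan.mk t.pt fun i => t.ι.app ⟨i⟩)
      fac := fun t ⟨i⟩ => hc'.fac _ ⟨i⟩
      uniq := fun t m hm' => hc'.uniq (Cofan.mk t.pt fun i => t.ι.app ⟨i⟩) m fun ⟨i⟩ => hm' ⟨i⟩ }
  exact ⟨isColimitOfReflects (E C) hE⟩

theorem strict (hc : IsColimit (Cofan.mk X s)) [hd : CoproductDisjoint Y] (hU : IsUniversalColimit (Cofan.mk X s))
    {i j : ι} (hij : i ≠ j) {W : C} (h : W ⟶ pullback (s i) (s j)) (T : C) : Nonempty (Unique (W ⟶ T)) := by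
  let I := IsInitial.ofCoproductDisjointOfIsColimit (Z := X) (f := s) hij hc
  haveI hms : ∀ k, Mono (s k) := fun k => Mono.of_coproductDisjoint hc k
  let g : W ⟶ X := h ≫ pullback.fst (s i) (s j) ≫ s i
  obtain ⟨hW⟩ := hU (Cofan.mk W fun k => pullback.snd (s k) g) (Discrete.natTrans fun k => pullback.fst (s k.as) g) g
    (by ext ⟨k⟩; exact pullback.condition) (NatTrans.equifibered_of_discrete _)
    (fun k => (IsPullback.of_hasPullback (s k.as) g).flip)
  refine ⟨⟨⟨h ≫ I.to T⟩, fun a => ?_⟩⟩
  have key : ∀ a b : W ⟶ T, a = b := fun a b => by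
    classical
    let d := hW.desc (Cofan.mk T fun k => pullback.snd (s k) g ≫ if k = i then a else b)
    have hd' : ∀ k, pullback.snd (s k) g ≫ d = pullback.snd (s k) g ≫ if k = i then a else b :=
      fun k => hW.fac _ ⟨k⟩
    let li : W ⟶ pullback (s i) g := pullback.lift (h ≫ pullback.fst (s i) (s j)) (𝟙 W) (by simp [g])
    let lj : W ⟶ pullback (s j) g := pullback.lift (h ≫ pullback.snd (s i) (s j)) (𝟙 W) (by
      simp [g, pullback.condition])
    have hli : li ≫ pullback.snd (s i) g = 𝟙 W := pullback.lift_snd _ _ _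
    have hlj : lj ≫ pullback.snd (s j) g = 𝟙 W := pullback.lift_snd _ _ _
    have hi : d = a := by
      have := congrArg (li ≫ ·) (hd' i)
      simpa [reassoc_of% hli] using this
    have hj : d = b := by
      have := congrArg (lj ≫ ·) (hd' j)
      simpa [reassoc_of% hlj, hij.symm] using this
    exact hi.symm.trans hj
  exact key _ _

theorem mpr (hc : IsColimit (Cofan.mk X s)) [hd : CoproductDisjoint Y] (hU : IsUniversalColimit (Cofan.mk X s)) :
    Nonempty (IsColimit (Cofan.mk ((E C).obj X) fun i => (E C).map (s i))) := by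
  have hS : Sieve.ofArrows Y s ∈ Sheaf.canonicalTopology C X := by
    refine Sheaf.mem_finestTopology_of_forall_isSheafFor ?_
    rintro _ ⟨T, rfl⟩ W f
    haveI : (Presieve.ofArrows Y s).HasPullbacks f := ⟨fun hg => by obtain ⟨i⟩ := hg; infer_instance⟩
    rw [Sieve.ofArrows, ← Sieve.pullbackArrows_comm, ← Presieve.isSheafFor_iff_generate,
      ← Presieve.ofArrows_pullback, Presieve.isSheafFor_arrows_iff]
    intro x _
    obtain ⟨hW⟩ := hU (Cofan.mk W fun k => pullback.snd (s k) f) (Discrete.natTrans fun k => pullback.fst (s k.as) f) f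
      (by ext ⟨k⟩; exact pullback.condition) (NatTrans.equifibered_of_discrete _)
      (fun k => (IsPullback.of_hasPullback (s k.as) f).flip)
    exact ⟨hW.desc (Cofan.mk T x), fun i => hW.fac (Cofan.mk T x) ⟨i⟩,
      fun t ht => hW.uniq (Cofan.mk T x) t fun ⟨i⟩ => ht i⟩
  refine (isColimit_cofan_iff fun i => (E C).map (s i)).2 ⟨je_of_mem s hS,
    fun i => haveI : Mono (s i) := Mono.of_coproductDisjoint hc i; inferInstance, fun i j hij => ?_⟩
  refine null_of_map (PreservesPullback.iso (E C) (s i) (s j)).inv (null_of_bot_mem ?_)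
  refine Sheaf.mem_finestTopology_of_forall_isSheafFor ?_
  rintro _ ⟨T, rfl⟩ W f x _
  obtain ⟨hu⟩ := strict Y s hc hU hij f T
  exact ⟨hu.default, fun _ _ hg => hg.elim, fun t _ => hu.uniq t⟩

theorem main : Nonempty (IsColimit (Cofan.mk ((E C).obj X) fun i => (E C).map (s i))) ↔
    Nonempty (IsColimit (Cofan.mk X s)) ∧ CoproductDisjoint Y ∧ IsUniversalColimit (Cofan.mk X s) :=
  ⟨fun ⟨h⟩ => mp Y s h, fun ⟨⟨hc⟩, hd, hU⟩ => haveI := hd; mpr Y s hc hU⟩

end Groth.Agent.ToposQC.Canon
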