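import Groth.Prelude.Def_SGA4c
import Mathlib.CategoryTheory.Sites.LocallySurjective
import Mathlib.CategoryTheory.Limits.Shapes.Pullback.IsPullback.Basic

/-!
Quasi-compact objects and morphisms of a sheaf topos: jointly epimorphic families.
-/

set_option autoImplicit false

universe w u

open CategoryTheory CategoryTheory.Limits Opposite

namespace Groth.Agent.ToposQC

open ToposFin

variable {C : Type u} [SmallCategory C] {J : GrothendieckTopology C}

/-- jointly epimorphic family -/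
def JE {X : Sh J} {ι : Type w} {F : ι → Sh J} (π : ∀ i, F i ⟶ X) : Prop :=
  ∀ (Z : Sh J) (a b : X ⟶ Z), (∀ i, π i ≫ a = π i ≫ b) → a = b

theorem je_iff_epi {X : Sh J} {ι : Type w} {F : ι → Sh J} [HasCoproduct F] (π : ∀ i, F i ⟶ X) :
    Epi (Sigma.desc π) ↔ JE π := by
  refine ⟨fun h Z a b e => (cancel_epi (Sigma.desc π)).1 (Sigma.hom_ext _ _ fun i => ?_), fun h => ⟨fun a b e => h _ a b fun i => ?_⟩⟩
  · simp [e i]
  · rw [← Sigma.ι_desc π i, Category.assoc, Category.assoc, e]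

theorem je_trans {X : Sh J} {ι : Type w} {F : ι → Sh J} {π : ∀ i, F i ⟶ X} (h : JE π) {κ : ι → Type w}
    {G : ∀ i, κ i → Sh J} {ρ : ∀ i k, G i k ⟶ F i} (hρ : ∀ i, JE (ρ i)) :
    JE (fun p : Σ i, κ i => ρ p.1 p.2 ≫ π p.1) :=
  fun Z a b e => h Z a b fun i => hρ i Z _ _ fun k => by simpa using e ⟨i, k⟩

theorem je_refine {X : Sh J} {ι : Type*} {F : ι → Sh J} {π : ∀ i, F i ⟶ X} (h : JE π) {κ : Type*}
    {G : κ → Sh J} {ρ : ∀ k, G k ⟶ X} (hr : ∀ i, ∃ k, ∃ t : F i ⟶ G k, t ≫ ρ k = π i) : JE ρ :=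
  fun Z a b e => h Z a b fun i => by
    obtain ⟨k, t, ht⟩ := hr i
    rw [← ht, Category.assoc, Category.assoc, e k]

theorem je_single {X Y : Sh J} (f : Y ⟶ X) [Epi f] : JE (fun _ : PUnit.{w + 1} => f) :=
  fun _ _ _ e => (cancel_epi f).1 (e PUnit.unit)

theorem je_comp {X X' : Sh J} {ι : Type w} {F : ι → Sh J} {π : ∀ i, F i ⟶ X} (h : JE π) (f : X ⟶ X') [Epi f] :
    JE (fun i => π i ≫ f) :=
  fun Z a b e => (cancel_epi f).1 (h Z _ _ fun i => by simpa using e i)

theorem je_cofan {ι : Type w} {F : ι → Sh J} (c : Cofan F) (hc : IsColimit c) : JE c.inj :=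
  fun _ _ _ e => Cofan.IsColimit.hom_ext hc _ _ e

/-- elements are maps from representables -/
noncomputable def el (U : C) (F : Sh J) : (eps J U ⟶ F) ≃ F.obj.obj (op U) :=
  ((sheafificationAdjunction J (Type u)).homEquiv _ _).trans yonedaEquiv

theorem el_comp {U : C} {F F' : Sh J} (g : eps J U ⟶ F) (φ : F ⟶ F') :
    el U F' (g ≫ φ) = φ.hom.app (op U) (el U F g) := by
  simp only [el, Equiv.trans_apply, Adjunction.homEquiv_naturality_right, yonedaEquiv_comp]
  rfl

theorem el_map {U V : C} (h : V ⟶ U) {F : Sh J} (g : eps J U ⟶ F) :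
    el V F ((presheafToSheaf J (Type u)).map (yoneda.map h) ≫ g) = F.obj.map h.op (el U F g) := by
  simp only [el, Equiv.trans_apply, Adjunction.homEquiv_naturality_left]
  exact (yonedaEquiv_naturality _ h).symm

theorem el_symm_map {U V : C} (h : V ⟶ U) {F : Sh J} (s : F.obj.obj (op U)) :
    (presheafToSheaf J (Type u)).map (yoneda.map h) ≫ (el U F).symm s = (el V F).symm (F.obj.map h.op s) := by
  rw [Equiv.eq_symm_apply, el_map, Equiv.apply_symm_apply]

/-- the union of the images, as a presheaf map -/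
def sigmaPre {ι : Type u} (F : ι → Sh J) : Cᵒᵖ ⥤ Type u where
  obj U := Σ i, (F i).obj.obj U
  map f := ↾(fun p => ⟨p.1, (F p.1).obj.map f p.2⟩)
  map_id U := by ext ⟨i, s⟩ <;> simp
  map_comp f g := by ext ⟨i, s⟩ <;> simp

theorem je_iff_local {X : Sh J} {ι : Type u} {F : ι → Sh J} (π : ∀ i, F i ⟶ X) :
    JE π ↔ ∀ (U : C) (s : X.obj.obj (op U)), ∃ S ∈ J U, ∀ (V : C) (f : V ⟶ U), S f →
      ∃ (i : ι) (t : (F i).obj.obj (op V)), (π i).hom.app (op V) t = X.obj.map f.op s := by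
  refine ⟨fun h U s => ?_, fun h Z a b e => ?_⟩
  · let q : sigmaPre F ⟶ X.obj :=
      { app := fun U => ↾(fun p => (π p.1).hom.app U p.2)
        naturality := fun U V f => by
          ext ⟨i, t⟩
          exact NatTrans.naturality_apply (π i).hom f t }
    let q' : (presheafToSheaf J (Type u)).obj (sigmaPre F) ⟶ X :=
      ((sheafificationAdjunction J (Type u)).homEquiv _ _).symm q
    have hq : toSheafify J (sigmaPre F) ≫ q'.hom = q :=
      ((sheafificationAdjunction J (Type u)).homEquiv_unit _ _ q').symm.trans (Equiv.apply_symm_apply _ q)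
    haveI : Epi q' := ⟨fun a b e => h _ a b fun i => by
      let j : (F i).obj ⟶ sigmaPre F :=
        { app := fun U => ↾(fun t => ⟨i, t⟩)
          naturality := fun U V f => rfl }
      have hj : j ≫ toSheafify J (sigmaPre F) ≫ q'.hom = (π i).hom := by rw [hq]; rfl
      refine Sheaf.hom_ext ?_
      show (π i).hom ≫ a.hom = (π i).hom ≫ b.hom
      rw [← hj, Category.assoc, Category.assoc, Category.assoc, Category.assoc]
      exact congrArg (fun m => j ≫ toSheafify J (sigmaPre F) ≫ m) (congrArg (fun m => m.hom) e)⟩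
    haveI : Sheaf.IsLocallySurjective q' := (Sheaf.isLocallySurjective_iff_epi q').2 inferInstance
    haveI : Presheaf.IsLocallySurjective J q'.hom := ‹Sheaf.IsLocallySurjective q'›
    haveI : Presheaf.IsLocallySurjective J q := by rw [← hq]; infer_instance
    refine ⟨Presheaf.imageSieve q s, Presheaf.imageSieve_mem J q s, fun V f hf => ?_⟩
    obtain ⟨⟨i, t⟩, ht⟩ := hf
    exact ⟨i, t, ht⟩
  · ext ⟨U⟩ s
    obtain ⟨S, hS, hloc⟩ := h U s
    have hsep : Presheaf.IsSheaf J Z.obj := Z.property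
    refine ((isSheaf_iff_isSheaf_of_type J Z.obj).1 hsep S hS).isSeparatedFor.ext fun V f hf => ?_
    obtain ⟨i, t, ht⟩ := hloc V f hf
    have ha := NatTrans.naturality_apply a.hom f.op s
    have hb := NatTrans.naturality_apply b.hom f.op s
    refine ha.symm.trans (Eq.trans ?_ hb)
    rw [← ht]
    exact ConcreteCategory.congr_hom (NatTrans.congr_app (congrArg (fun m => m.hom) (e i)) (op V)) t

theorem je_pullback {X Y : Sh J} {ι : Type u} {F P : ι → Sh J} {π : ∀ i, F i ⟶ X} (hπ : JE π) (h : Y ⟶ X)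
    (p : ∀ i, P i ⟶ F i) (q : ∀ i, P i ⟶ Y) (sq : ∀ i, IsPullback (p i) (q i) (π i) h) : JE q := by
  rw [je_iff_local]
  intro U s
  obtain ⟨S, hS, hloc⟩ := (je_iff_local π).1 hπ U (h.hom.app (op U) s)
  refine ⟨S, hS, fun V f hf => ?_⟩
  obtain ⟨i, t, ht⟩ := hloc V f hf
  have hw : (el V (F i)).symm t ≫ π i = (el V Y).symm (Y.obj.map f.op s) ≫ h := by
    apply (el V X).injective
    rw [el_comp, el_comp, Equiv.apply_symm_apply, Equiv.apply_symm_apply, ht]
    exact (NatTrans.naturality_apply h.hom f.op s).symm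
  refine ⟨i, el V (P i) ((sq i).lift _ _ hw), ?_⟩
  rw [← el_comp, (sq i).lift_snd, Equiv.apply_symm_apply]

theorem je_pullback_snd {X Y : Sh J} {ι : Type u} {F : ι → Sh J} {π : ∀ i, F i ⟶ X} (hπ : JE π) (h : Y ⟶ X) :
    JE (fun i => pullback.snd (π i) h) :=
  je_pullback hπ h _ _ fun i => IsPullback.of_hasPullback (π i) h

theorem je_pullback_fst {X Y : Sh J} {ι : Type u} {F : ι → Sh J} {π : ∀ i, F i ⟶ X} (hπ : JE π) (h : Y ⟶ X) :
    JE (fun i => pullback.fst h (π i)) :=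
  je_pullback hπ h _ _ fun i => (IsPullback.of_hasPullback h (π i)).flip

theorem epi_of_isPullback {X Y F P : Sh J} {π : F ⟶ X} [Epi π] {h : Y ⟶ X} {p : P ⟶ F} {q : P ⟶ Y}
    (sq : IsPullback p q π h) : Epi q :=
  ⟨fun a b e => je_pullback (je_single.{u} π) h (fun _ => p) (fun _ => q) (fun _ => sq) _ a b fun _ => e⟩

/-! quasi-compact objects -/

theorem qc_iff (X : Sh J) : IsQC X ↔ ∀ (ι : Type u) (F : ι → Sh J) (π : ∀ i, F i ⟶ X), JE π →
    ∃ s : Finset ι, JE (fun i : s => π i) :=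
  ⟨fun h ι F π hπ => (h ι F π ((je_iff_epi π).2 hπ)).imp fun _ hs => (je_iff_epi _).1 hs,
    fun h ι F π hπ => (h ι F π ((je_iff_epi π).1 hπ)).imp fun _ hs => (je_iff_epi _).2 hs⟩

theorem qc_of_finite {X : Sh J} {κ : Type*} [Finite κ] {F : κ → Sh J} {π : ∀ k, F k ⟶ X} (hπ : JE π)
    (hF : ∀ k, IsQC (F k)) : IsQC X := by
  classical
  rw [qc_iff]
  intro ι G ρ hρ
  have h : ∀ k, ∃ s : Finset ι, JE (fun i : s => pullback.fst (π k) (ρ i.1)) := fun k =>
    (qc_iff _).1 (hF k) ι _ _ (je_pullback_fst hρ (π k))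
  choose s hs using h
  haveI := Fintype.ofFinite κ
  refine ⟨Finset.univ.biUnion s, fun Z a b e => hπ Z a b fun k => hs k Z _ _ fun i => ?_⟩
  have hi : i.1 ∈ Finset.univ.biUnion s := Finset.mem_biUnion.2 ⟨k, Finset.mem_univ k, i.2⟩
  rw [pullback.condition_assoc, pullback.condition_assoc]
  exact congrArg (fun m => pullback.snd (π k) (ρ i.1) ≫ m) (e ⟨i.1, hi⟩)

theorem qc_of_epi {X Y : Sh J} (f : Y ⟶ X) [Epi f] (h : IsQC Y) : IsQC X :=
  qc_of_finite (je_single.{0} f) fun _ => h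

theorem qc_of_iso {X Y : Sh J} (e : Y ≅ X) (h : IsQC Y) : IsQC X := qc_of_epi e.hom h

/-- a quasi-compact object covered by a family is covered by finitely many members -/
theorem qc_exists_finite {X : Sh J} (hX : IsQC X) {ι : Type u} {F : ι → Sh J} {π : ∀ i, F i ⟶ X} (hπ : JE π) :
    ∃ s : Finset ι, JE (fun i : s => π i) := (qc_iff X).1 hX ι F π hπ

/-- generating family -/
def Gen {α : Type*} (G : α → Sh J) : Prop :=
  ∀ X : Sh J, ∃ (ι : Type u) (a : ι → α) (π : ∀ i, G (a i) ⟶ X), JE π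

theorem gen_of_epi {α : Type*} {G : α → Sh J}
    (h : ∀ X : Sh J, ∃ (ι : Type u) (a : ι → α) (π : ∀ i, G (a i) ⟶ X), Epi (Sigma.desc π)) : Gen G := fun X => by
  obtain ⟨ι, a, π, hπ⟩ := h X
  exact ⟨ι, a, π, (je_iff_epi π).1 hπ⟩

/-- all quasi-compact objects -/
abbrev qcObj : {K : Sh J // IsQC K} → Sh J := fun K => K.1

theorem gen_qc (h : HasQCGenerators J) : Gen (qcObj (J := J)) := fun X => by
  obtain ⟨ι, F, π, hF, hπ⟩ := h X
  exact ⟨ι, fun i => ⟨F i, hF i⟩, π, (je_iff_epi π).1 hπ⟩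

/-- representables generate -/
theorem gen_eps : Gen (fun U : C => eps J U) := fun X => by
  refine ⟨Σ U : C, X.obj.obj (op U), fun p => p.1, fun p => (el p.1 X).symm p.2, fun Z a b e => ?_⟩
  ext ⟨U⟩ s
  have h := congrArg (el U Z) (e ⟨U, s⟩)
  simpa [el_comp] using h

end Groth.Agent.ToposQC
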