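import Groth.Agent.ToposQC.Basic
import Mathlib.CategoryTheory.Limits.Shapes.Diagonal
import Mathlib.CategoryTheory.MorphismProperty.Limits

/-!
Quasi-compact and quasi-separated morphisms of a sheaf topos.
-/

set_option autoImplicit false

universe w u

open CategoryTheory CategoryTheory.Limits Opposite

namespace Groth.Agent.ToposQC

open ToposFin

variable {C : Type u} [SmallCategory C] {J : GrothendieckTopology C}

theorem qcHom_apply {X Y Y' P : Sh J} {f : X ⟶ Y} (hf : IsQCHom f) {p : P ⟶ X} {q : P ⟶ Y'} {g : Y' ⟶ Y}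
    (sq : IsPullback p q f g) (hY : IsQC Y') : IsQC P :=
  qc_of_iso sq.isoPullback.symm (hf Y' g hY)

theorem qcHom_mk {X Y : Sh J} {f : X ⟶ Y}
    (h : ∀ (Y' : Sh J) (g : Y' ⟶ Y), IsQC Y' → ∃ (P : Sh J) (p : P ⟶ X) (q : P ⟶ Y'), IsPullback p q f g ∧ IsQC P) :
    IsQCHom f := fun Y' g hY => by
  obtain ⟨P, p, q, sq, hP⟩ := h Y' g hY
  exact qc_of_iso sq.isoPullback hP

theorem qcHom_baseChange {X Y X' Y' : Sh J} {f : X ⟶ Y} {p : X' ⟶ X} {f' : X' ⟶ Y'} {g : Y' ⟶ Y}
    (sq : IsPullback p f' f g) (hf : IsQCHom f) : IsQCHom f' := fun W k hW =>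
  qcHom_apply hf ((IsPullback.of_hasPullback f' k).paste_horiz sq) hW

theorem qcHom_comp {X Y Z : Sh J} {f : X ⟶ Y} {g : Y ⟶ Z} (hf : IsQCHom f) (hg : IsQCHom g) : IsQCHom (f ≫ g) :=
  qcHom_mk fun W k hW => ⟨pullback f (pullback.fst g k), pullback.fst _ _, pullback.snd _ _ ≫ pullback.snd _ _,
    (IsPullback.of_hasPullback f (pullback.fst g k)).paste_vert (IsPullback.of_hasPullback g k),
    hf _ _ (hg W k hW)⟩

theorem qcHom_of_isIso {X Y : Sh J} (f : X ⟶ Y) [IsIso f] : IsQCHom f :=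
  qcHom_mk fun W k hW => ⟨W, k ≫ inv f, 𝟙 W, IsPullback.of_vert_isIso ⟨by simp⟩, hW⟩

theorem qcHom_of_comp_mono {X Y Z : Sh J} (f : X ⟶ Y) (m : Y ⟶ Z) [Mono m] (h : IsQCHom (f ≫ m)) : IsQCHom f :=
  qcHom_mk fun W k hW => by
    refine ⟨pullback (f ≫ m) (k ≫ m), pullback.fst _ _, pullback.snd _ _, ?_, h W (k ≫ m) hW⟩
    have hw : pullback.fst (f ≫ m) (k ≫ m) ≫ f = pullback.snd _ _ ≫ k := by
      rw [← cancel_mono m, Category.assoc, Category.assoc]; exact pullback.condition
    exact ⟨⟨hw⟩, ⟨PullbackCone.IsLimit.mk _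
      (fun s => pullback.lift s.fst s.snd (by rw [← Category.assoc, s.condition, Category.assoc]))
      (fun s => pullback.lift_fst _ _ _) (fun s => pullback.lift_snd _ _ _)
      (fun s l h1 h2 => pullback.hom_ext (by rw [pullback.lift_fst]; exact h1) (by rw [pullback.lift_snd]; exact h2))⟩⟩

/-- quasi-compact morphisms, as a morphism property -/
def QCH (J : GrothendieckTopology C) : MorphismProperty (Sh J) := fun _ _ f => IsQCHom f

instance : (QCH J).IsStableUnderBaseChange where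
  of_isPullback sq h := qcHom_baseChange sq h

/-- it is enough to test on a covering of the source of a test map by quasi-compact objects -/
theorem qc_pullback_of_cover {X Y Y' : Sh J} (f : X ⟶ Y) (g : Y' ⟶ Y) (hY : IsQC Y') {κ : Type u} {W : κ → Sh J}
    {w : ∀ k, W k ⟶ Y'} (hw : JE w) (h : ∀ k, IsQC (pullback f (w k ≫ g))) : IsQC (pullback f g) := by
  obtain ⟨s, hs⟩ := qc_exists_finite hY hw
  let p : ∀ k, pullback f (w k ≫ g) ⟶ pullback f g := fun k =>
    pullback.lift (pullback.fst _ _) (pullback.snd _ _ ≫ w k) (by rw [Category.assoc]; exact pullback.condition)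
  have hp : ∀ k, IsPullback (pullback.snd f (w k ≫ g)) (p k) (w k) (pullback.snd f g) := fun k => by
    have h2 : p k ≫ pullback.snd f g = pullback.snd f (w k ≫ g) ≫ w k := pullback.lift_snd _ _ _
    refine IsPullback.of_bot ?_ h2.symm (IsPullback.of_hasPullback f g).flip
    rw [show p k ≫ pullback.fst f g = pullback.fst f (w k ≫ g) from pullback.lift_fst _ _ _]
    exact (IsPullback.of_hasPullback f (w k ≫ g)).flip
  exact qc_of_finite (je_pullback (π := fun k : s => w k) hs _ _ _ fun k => hp k.1) fun k => h k.1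

/-- testing on generators -/
theorem qcHom_of_gen {α : Type*} {G : α → Sh J} (hG : ∀ a, IsQC (G a)) (hgen : Gen G) {X Y : Sh J} (f : X ⟶ Y)
    (h : ∀ (a : α) (s : G a ⟶ Y), IsQC (pullback f s)) : IsQCHom f := fun Y' g hY => by
  obtain ⟨ι, a, π, hπ⟩ := hgen Y'
  exact qc_pullback_of_cover f g hY hπ fun i => h (a i) _

/-- testing on a covering of the target -/
theorem qcHom_of_target {α : Type*} {G : α → Sh J} (hG : ∀ a, IsQC (G a)) (hgen : Gen G) {X Y : Sh J} (f : X ⟶ Y)
    {ι : Type u} {Yi : ι → Sh J} {g : ∀ i, Yi i ⟶ Y} (hg : JE g) (h : ∀ i, IsQCHom (pullback.snd f (g i))) :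
    IsQCHom f := fun Y' k hY => by
  have hP := fun i => hgen (pullback (g i) k)
  choose κ a π hπ using hP
  refine qc_pullback_of_cover f k hY (je_trans (je_pullback_snd hg k) hπ) fun p => ?_
  obtain ⟨i, l⟩ := p
  have e : (π i l ≫ pullback.snd (g i) k) ≫ k = (π i l ≫ pullback.fst (g i) k) ≫ g i := by
    simp [pullback.condition]
  refine qc_of_iso (asIso (pullback.congrHom rfl e.symm).hom) ?_
  refine qc_of_iso ?_ (qcHom_apply (h i) (IsPullback.of_hasPullback (pullback.snd f (g i)) (π i l ≫ pullback.fst (g i) k)) (hG _))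
  exact ((IsPullback.of_hasPullback (pullback.snd f (g i)) (π i l ≫ pullback.fst (g i) k)).paste_horiz
    (IsPullback.of_hasPullback f (g i))).isoPullback

/-- a finite covering of the source -/
theorem qcHom_of_source {Y Z : Sh J} (g : Y ⟶ Z) {κ : Type*} [Finite κ] {X : κ → Sh J} {f : ∀ k, X k ⟶ Y}
    (hf : JE f) (h : ∀ k, IsQCHom (f k ≫ g)) : IsQCHom g := fun Z' k hZ => by
  classical
  haveI := Fintype.ofFinite κ
  let p : ∀ i, pullback (f i ≫ g) k ⟶ pullback g k := fun i =>
    pullback.lift (pullback.fst _ _ ≫ f i) (pullback.snd _ _) (by rw [Category.assoc]; exact pullback.condition)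
  refine qc_of_finite (π := p) (fun W a b e => ?_) fun i => h i Z' k hZ
  have hu : JE (fun x : ULift.{u} (Fin (Fintype.card κ)) => f ((Fintype.equivFin κ).symm x.down)) := fun W a b e =>
    hf W a b fun i => by
      obtain ⟨j, rfl⟩ := (Fintype.equivFin κ).symm.surjective i
      exact e ⟨j⟩
  refine je_pullback hu (pullback.fst g k) (fun x => pullback.fst (f ((Fintype.equivFin κ).symm x.down) ≫ g) k)
    (fun x => p ((Fintype.equivFin κ).symm x.down)) (fun x => ?_) W a b fun x => e _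
  generalize (Fintype.equivFin κ).symm x.down = i
  have h1 : p i ≫ pullback.fst g k = pullback.fst (f i ≫ g) k ≫ f i := pullback.lift_fst _ _ _
  refine IsPullback.of_bot ?_ h1.symm (IsPullback.of_hasPullback g k)
  rw [show p i ≫ pullback.snd g k = pullback.snd (f i ≫ g) k from pullback.lift_snd _ _ _]
  exact IsPullback.of_hasPullback (f i ≫ g) k

/-! quasi-separated morphisms -/

theorem qsHom_of_mono {X Y : Sh J} (u : X ⟶ Y) [Mono u] : IsQSHom u := qcHom_of_isIso _

theorem qcHom_map {X Y S T : Sh J} (f : X ⟶ T) (g : Y ⟶ T) {i : T ⟶ S} (hi : IsQSHom i) :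
    IsQCHom (pullback.map f g (f ≫ i) (g ≫ i) _ _ i (Category.id_comp _).symm (Category.id_comp _).symm) :=
  qcHom_baseChange (pullback_map_diagonal_isPullback f g i) hi

theorem diagonal_comp' {X Y Z : Sh J} (f : X ⟶ Y) (g : Y ⟶ Z) : pullback.diagonal (f ≫ g) = pullback.diagonal f ≫
    pullback.map f f (f ≫ g) (f ≫ g) _ _ g (Category.id_comp _).symm (Category.id_comp _).symm := by
  apply pullback.hom_ext
  · rw [pullback.diagonal_fst, Category.assoc]
    exact (((congrArg (pullback.diagonal f ≫ ·) (pullback.lift_fst _ _ _)).trans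
      (congrArg (pullback.diagonal f ≫ ·) (Category.comp_id _))).trans (pullback.diagonal_fst f)).symm
  · rw [pullback.diagonal_snd, Category.assoc]
    exact (((congrArg (pullback.diagonal f ≫ ·) (pullback.lift_snd _ _ _)).trans
      (congrArg (pullback.diagonal f ≫ ·) (Category.comp_id _))).trans (pullback.diagonal_snd f)).symm

theorem mono_map {X W Y Z : Sh J} (f : X ⟶ Y) (f' : W ⟶ Y) (g : Y ⟶ Z) :
    Mono (pullback.map f f' (f ≫ g) (f' ≫ g) _ _ g (Category.id_comp _).symm (Category.id_comp _).symm) := by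
  refine ⟨fun a b e => pullback.hom_ext ?_ ?_⟩
  · have h := congrArg (fun t => t ≫ pullback.fst (f ≫ g) (f' ≫ g)) e
    have h1 : pullback.map f f' (f ≫ g) (f' ≫ g) _ _ g (Category.id_comp _).symm (Category.id_comp _).symm ≫
        pullback.fst (f ≫ g) (f' ≫ g) = pullback.fst f f' := (pullback.lift_fst _ _ _).trans (Category.comp_id _)
    simpa only [Category.assoc, h1] using h
  · have h := congrArg (fun t => t ≫ pullback.snd (f ≫ g) (f' ≫ g)) e
    have h1 : pullback.map f f' (f ≫ g) (f' ≫ g) _ _ g (Category.id_comp _).symm (Category.id_comp _).symm ≫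
        pullback.snd (f ≫ g) (f' ≫ g) = pullback.snd f f' := (pullback.lift_snd _ _ _).trans (Category.comp_id _)
    simpa only [Category.assoc, h1] using h

theorem qsHom_comp {X Y Z : Sh J} {f : X ⟶ Y} {g : Y ⟶ Z} (hf : IsQSHom f) (hg : IsQSHom g) : IsQSHom (f ≫ g) := by
  show IsQCHom _
  rw [diagonal_comp']
  exact qcHom_comp hf (qcHom_map f f hg)

theorem qsHom_of_comp {X Y Z : Sh J} (f : X ⟶ Y) (g : Y ⟶ Z) (h : IsQSHom (f ≫ g)) : IsQSHom f := by
  haveI := mono_map f f g
  refine qcHom_of_comp_mono _ (pullback.map f f (f ≫ g) (f ≫ g) _ _ g (Category.id_comp _).symm (Category.id_comp _).symm) ?_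
  rw [← diagonal_comp']
  exact h

theorem qcHom_of_comp {X Y Z : Sh J} (f : X ⟶ Y) (g : Y ⟶ Z) (hg : IsQSHom g) (h : IsQCHom (f ≫ g)) : IsQCHom f := by
  have e : f = pullback.lift (𝟙 X) f (by simp) ≫ pullback.snd (f ≫ g) g := (pullback.lift_snd _ _ _).symm
  rw [e]
  exact qcHom_comp (qcHom_baseChange (pullback_lift_diagonal_isPullback f g) hg)
    (qcHom_baseChange (IsPullback.of_hasPullback (f ≫ g) g) h)

theorem qsHom_baseChange {X Y X' Y' : Sh J} {f : X ⟶ Y} {p : X' ⟶ X} {f' : X' ⟶ Y'} {g : Y' ⟶ Y}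
    (sq : IsPullback p f' f g) (hf : IsQSHom f) : IsQSHom f' :=
  (MorphismProperty.IsStableUnderBaseChange.of_isPullback (P := (QCH J).diagonal) sq hf : (QCH J).diagonal f')

/-! quasi-separated objects -/

theorem qs_iff (X : Sh J) : IsQS X ↔ ∀ (Y : Sh J) (a : Y ⟶ X), IsQC Y → IsQCHom a :=
  ⟨fun h Y a hY Z b hZ => h Y Z a b hY hZ, fun h Y Z a b hY hZ => h Y a hY Z b hZ⟩

theorem qs_of_qsHom {X Y : Sh J} (f : X ⟶ Y) (hf : IsQSHom f) (hY : IsQS Y) : IsQS X := fun P Q a b hP hQ =>
  qc_of_iso (Iso.refl _) (qcHom_apply (qcHom_map a b hf) (P := pullback a b)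
    (p := 𝟙 _) (q := pullback.map a b (a ≫ f) (b ≫ f) _ _ f (Category.id_comp _).symm (Category.id_comp _).symm)
    (g := 𝟙 _) (IsPullback.of_horiz_isIso ⟨by simp⟩) (hY P Q (a ≫ f) (b ≫ f) hP hQ))

theorem qs_of_mono {X Y : Sh J} (i : X ⟶ Y) [Mono i] (h : IsQS Y) : IsQS X := qs_of_qsHom i (qsHom_of_mono i) h

theorem qs_of_iso {X Y : Sh J} (e : Y ≅ X) (h : IsQS Y) : IsQS X := qs_of_mono e.inv h

theorem qc_of_qcHom {X Y : Sh J} (f : X ⟶ Y) (hf : IsQCHom f) (hY : IsQC Y) : IsQC X :=
  qcHom_apply hf (p := 𝟙 X) (q := f) (g := 𝟙 Y) (IsPullback.of_horiz_isIso ⟨by simp⟩) hY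

theorem qs_of_gen {α : Type*} {G : α → Sh J} (hG : ∀ a, IsQC (G a)) (hgen : Gen G) (Y : Sh J)
    (h : ∀ (a : α) (s : G a ⟶ Y), IsQCHom s) : IsQS Y := by
  intro P Q a b hP hQ
  refine qcHom_of_gen hG hgen a (fun i s => ?_) Q b hQ
  exact qc_of_iso (pullbackSymmetry s a) (h i s P a hP)

end Groth.Agent.ToposQC

namespace Groth.Agent.ToposQC

open ToposFin

variable {C : Type u} [SmallCategory C] {J : GrothendieckTopology C}

section diag

variable {X Y X' Y' : Sh J} {f : X ⟶ Y} {p : X' ⟶ X} {f' : X' ⟶ Y'} {g : Y' ⟶ Y}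

/-- the induced map of self fibre products -/
noncomputable def diagBC (sq : IsPullback p f' f g) : pullback f' f' ⟶ pullback f f :=
  pullback.lift (pullback.fst f' f' ≫ p) (pullback.snd f' f' ≫ p) (by
    rw [Category.assoc, Category.assoc, sq.w, pullback.condition_assoc])

theorem diagBC_fst (sq : IsPullback p f' f g) : diagBC sq ≫ pullback.fst f f = pullback.fst f' f' ≫ p :=
  pullback.lift_fst _ _ _

theorem diagBC_snd (sq : IsPullback p f' f g) : diagBC sq ≫ pullback.snd f f = pullback.snd f' f' ≫ p :=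
  pullback.lift_snd _ _ _

theorem isPullback_diagonal (sq : IsPullback p f' f g) :
    IsPullback p (pullback.diagonal f') (pullback.diagonal f) (diagBC sq) := by
  have hw : p ≫ pullback.diagonal f = pullback.diagonal f' ≫ diagBC sq := by
    apply pullback.hom_ext
    · rw [Category.assoc, Category.assoc, pullback.diagonal_fst, diagBC_fst, Category.comp_id,
        pullback.diagonal_fst_assoc]
    · rw [Category.assoc, Category.assoc, pullback.diagonal_snd, diagBC_snd, Category.comp_id,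
        pullback.diagonal_snd_assoc]
  have key : ∀ (W : Sh J) (a : W ⟶ X) (c : W ⟶ pullback f' f'), a ≫ pullback.diagonal f = c ≫ diagBC sq →
      (c ≫ pullback.fst f' f') ≫ p = a ∧ (c ≫ pullback.fst f' f') ≫ pullback.diagonal f' = c := fun W a c h => by
    have h1 := congrArg (fun t => t ≫ pullback.fst f f) h
    have h2 := congrArg (fun t => t ≫ pullback.snd f f) h
    simp only [Category.assoc, pullback.diagonal_fst, Category.comp_id, diagBC_fst] at h1
    simp only [Category.assoc, pullback.diagonal_snd, Category.comp_id, diagBC_snd] at h2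
    have e : c ≫ pullback.fst f' f' = c ≫ pullback.snd f' f' := sq.hom_ext
      (by simp only [Category.assoc]; exact h1.symm.trans h2) (by simp only [Category.assoc, pullback.condition])
    refine ⟨(Category.assoc _ _ _).trans h1.symm, pullback.hom_ext ?_ ?_⟩
    · simp only [Category.assoc, pullback.diagonal_fst, Category.comp_id]
    · simp only [Category.assoc, pullback.diagonal_snd, Category.comp_id]
      exact e
  refine ⟨⟨hw⟩, ⟨PullbackCone.IsLimit.mk _ (fun s => s.snd ≫ pullback.fst f' f')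
    (fun s => (key _ _ _ s.condition).1) (fun s => (key _ _ _ s.condition).2) fun s l _ h2 => ?_⟩⟩
  rw [← h2, Category.assoc, pullback.diagonal_fst, Category.comp_id]

theorem isPullback_diagBC (sq : IsPullback p f' f g) :
    IsPullback (diagBC sq) (pullback.fst f' f' ≫ f') (pullback.fst f f ≫ f) g := by
  have hw : diagBC sq ≫ pullback.fst f f ≫ f = (pullback.fst f' f' ≫ f') ≫ g := by
    rw [← Category.assoc, diagBC_fst, Category.assoc, sq.w, Category.assoc]
  refine ⟨⟨hw⟩, ⟨PullbackCone.IsLimit.mk _ (fun s => pullback.lift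
    (sq.lift (s.fst ≫ pullback.fst f f) s.snd (by rw [Category.assoc]; exact s.condition))
    (sq.lift (s.fst ≫ pullback.snd f f) s.snd (by rw [Category.assoc, ← pullback.condition]; exact s.condition))
    (by rw [sq.lift_snd, sq.lift_snd])) (fun s => ?_) (fun s => ?_) fun s l h1 h2 => ?_⟩⟩
  · apply pullback.hom_ext
    · rw [Category.assoc, diagBC_fst, pullback.lift_fst_assoc, sq.lift_fst]
    · rw [Category.assoc, diagBC_snd, pullback.lift_snd_assoc, sq.lift_fst]
  · rw [pullback.lift_fst_assoc, sq.lift_snd]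
  · apply pullback.hom_ext
    · rw [pullback.lift_fst]
      apply sq.hom_ext
      · rw [sq.lift_fst, ← h1, Category.assoc, Category.assoc, diagBC_fst]
      · rw [sq.lift_snd, Category.assoc, h2]
    · rw [pullback.lift_snd]
      apply sq.hom_ext
      · rw [sq.lift_fst, ← h1, Category.assoc, Category.assoc, diagBC_snd]
      · rw [sq.lift_snd, Category.assoc, ← pullback.condition, h2]

end diag

theorem qsHom_of_target {α : Type*} {G : α → Sh J} (hG : ∀ a, IsQC (G a)) (hgen : Gen G) {X Y : Sh J} (f : X ⟶ Y)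
    {ι : Type u} {Yi : ι → Sh J} {g : ∀ i, Yi i ⟶ Y} (hg : JE g) (h : ∀ i, IsQSHom (pullback.snd f (g i))) :
    IsQSHom f := by
  refine qcHom_of_target hG hgen _ (je_pullback hg (pullback.fst f f ≫ f) _ _ fun i =>
    (isPullback_diagBC (IsPullback.of_hasPullback f (g i))).flip) fun i => ?_
  have sq := isPullback_diagonal (IsPullback.of_hasPullback f (g i))
  refine qcHom_baseChange (p := 𝟙 _ ≫ sq.isoPullback.inv) (g := 𝟙 _) ?_ (h i)
  exact IsPullback.of_horiz_isIso ⟨by simp⟩

/-- the family `X_i ×_Z X_j ⟶ Y ×_Z Y` -/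
theorem je_prod {Y Z : Sh J} (g : Y ⟶ Z) {ι : Type u} {X : ι → Sh J} {f : ∀ i, X i ⟶ Y} (hf : JE f) :
    JE (fun p : Σ _ : ι, ι =>
      pullback.map (f p.1 ≫ g) (f p.2 ≫ g) g g (f p.1) (f p.2) (𝟙 Z) (Category.comp_id _) (Category.comp_id _)) := by
  have e1 : ∀ i, IsPullback (pullback.fst (f i ≫ g) g)
      (pullback.map (f i ≫ g) g g g (f i) (𝟙 Y) (𝟙 Z) (Category.comp_id _) (by simp)) (f i) (pullback.fst g g) := fun i => by
    refine IsPullback.of_bot ?_ (pullback.lift_fst _ _ _).symm (IsPullback.of_hasPullback g g)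
    rw [show pullback.map (f i ≫ g) g g g (f i) (𝟙 Y) (𝟙 Z) (Category.comp_id _) (by simp) ≫ pullback.snd g g =
      pullback.snd (f i ≫ g) g from (pullback.lift_snd _ _ _).trans (Category.comp_id _)]
    exact IsPullback.of_hasPullback (f i ≫ g) g
  have e2 : ∀ i j, IsPullback (pullback.snd (f i ≫ g) (f j ≫ g))
      (pullback.map (f i ≫ g) (f j ≫ g) (f i ≫ g) g (𝟙 _) (f j) (𝟙 Z) (by simp) (Category.comp_id _)) (f j)
      (pullback.snd (f i ≫ g) g) := fun i j => by
    refine IsPullback.of_bot ?_ (pullback.lift_snd _ _ _).symm (IsPullback.of_hasPullback (f i ≫ g) g).flip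
    rw [show pullback.map (f i ≫ g) (f j ≫ g) (f i ≫ g) g (𝟙 _) (f j) (𝟙 Z) (by simp) (Category.comp_id _) ≫
      pullback.fst (f i ≫ g) g = pullback.fst (f i ≫ g) (f j ≫ g) from (pullback.lift_fst _ _ _).trans (Category.comp_id _)]
    exact (IsPullback.of_hasPullback (f i ≫ g) (f j ≫ g)).flip
  refine fun W a b e => je_trans (je_pullback hf _ _ _ e1) (fun i => je_pullback hf _ _ _ (e2 i)) W a b fun p => ?_
  have h : pullback.map (f p.1 ≫ g) (f p.2 ≫ g) (f p.1 ≫ g) g (𝟙 _) (f p.2) (𝟙 Z) (by simp) (Category.comp_id _) ≫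
      pullback.map (f p.1 ≫ g) g g g (f p.1) (𝟙 Y) (𝟙 Z) (Category.comp_id _) (by simp) =
      pullback.map (f p.1 ≫ g) (f p.2 ≫ g) g g (f p.1) (f p.2) (𝟙 Z) (Category.comp_id _) (Category.comp_id _) := by
    rw [pullback.map_comp]
    simp
  exact (congrArg (· ≫ a) h).trans ((e p).trans (congrArg (· ≫ b) h).symm)

/-- quasi-separatedness on a covering of the source -/
theorem qsHom_of_source {α : Type*} {G : α → Sh J} (hG : ∀ a, IsQC (G a)) (hgen : Gen G) {Y Z : Sh J} (g : Y ⟶ Z)
    {ι : Type u} {X : ι → Sh J} {f : ∀ i, X i ⟶ Y} (hf : JE f) (hqc : ∀ i, IsQCHom (f i))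
    (hqs : ∀ i, IsQSHom (f i ≫ g)) : IsQSHom g := by
  refine qcHom_of_target hG hgen _ (je_prod g hf) fun p => ?_
  obtain ⟨i, j⟩ := p
  let m := pullback.map (f i) (f j) (f i ≫ g) (f j ≫ g) _ _ g (Category.id_comp _).symm (Category.id_comp _).symm
  have hm : IsQCHom m := by
    refine qcHom_of_comp m (pullback.fst (f i ≫ g) (f j ≫ g))
      (qsHom_baseChange (IsPullback.of_hasPullback (f i ≫ g) (f j ≫ g)).flip (hqs j)) ?_
    rw [show m ≫ pullback.fst (f i ≫ g) (f j ≫ g) = pullback.fst (f i) (f j) from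
      (pullback.lift_fst _ _ _).trans (Category.comp_id _)]
    exact qcHom_baseChange (IsPullback.of_hasPullback (f i) (f j)).flip (hqc j)
  refine qcHom_baseChange (p := 𝟙 _ ≫ (pullback_map_diagonal_isPullback (f i) (f j) g).isoPullback.inv) (g := 𝟙 _) ?_ hm
  exact IsPullback.of_horiz_isIso ⟨by
    simp only [Category.id_comp, Category.comp_id]
    exact (pullback_map_diagonal_isPullback (f i) (f j) g).isoPullback_inv_snd⟩

end Groth.Agent.ToposQC
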