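import Groth.Agent.ToposQC.Hom
import Mathlib.CategoryTheory.Sites.Closed

/-!
Quasi-compactness on the site and in the topos.
-/

set_option autoImplicit false

universe w u

open CategoryTheory CategoryTheory.Limits Opposite

namespace Groth.Agent.ToposQC

open ToposFin

variable {C : Type u} [SmallCategory C] {J : GrothendieckTopology C}

/-- the map of representables -/
noncomputable abbrev am {U V : C} (f : V ⟶ U) : eps J V ⟶ eps J U := (presheafToSheaf J (Type u)).map (yoneda.map f)

theorem je_of_cover {X : C} {ι : Type*} (Yf : ι → C) (g : ∀ i, Yf i ⟶ X) (h : Sieve.ofArrows Yf g ∈ J X) :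
    JE (fun i => am (J := J) (g i)) := by
  intro Z a b e
  apply (el X Z).injective
  refine ((isSheaf_iff_isSheaf_of_type J Z.obj).1 Z.property _ h).isSeparatedFor.ext fun V f hf => ?_
  obtain ⟨W, t, q, hq, rfl⟩ := hf
  obtain ⟨i⟩ := hq
  have e' := congrArg (el (Yf i) Z) (e i)
  rw [el_map, el_map] at e'
  rw [op_comp, FunctorToTypes.map_comp_apply, FunctorToTypes.map_comp_apply, e']

/-- the sheaf of closed sieves -/
def omega (J : GrothendieckTopology C) : Sh J :=
  ⟨(Functor.closedSieves J).toFunctor, (isSheaf_iff_isSheaf_of_type J _).2 (classifier_isSheaf J)⟩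

theorem mem_of_je {X : C} {ι : Type*} (Y : ι → C) (g : ∀ i, Y i ⟶ X) (h : JE (fun i => am (J := J) (g i))) :
    Sieve.ofArrows Y g ∈ J X := by
  rw [← J.close_eq_top_iff_mem]
  let S : Sieve X := Sieve.ofArrows Y g
  let s₀ : (omega J).obj.obj (op X) := ⟨J.close S, J.close_isClosed S⟩
  let s₁ : (omega J).obj.obj (op X) := ⟨(⊤ : Sieve X), fun _ _ _ => trivial⟩
  have key : (el X (omega J)).symm s₀ = (el X (omega J)).symm s₁ := h _ _ _ fun i => by
    rw [el_symm_map, el_symm_map]
    congr 1
    refine Subtype.ext ?_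
    show (J.close S).pullback (g i) = (⊤ : Sieve X).pullback (g i)
    rw [Sieve.pullback_top, ← J.pullback_close, S.pullback_eq_top_of_mem (Sieve.ofArrows_mk Y g i),
      J.close_eq_top_iff_mem]
    exact J.top_mem _
  exact congrArg Subtype.val ((el X (omega J)).symm.injective key)

theorem qcSite_iff (X : C) : IsQCSite J X ↔ IsQC (eps J X) := by
  classical
  refine ⟨fun h => ?_, fun h S hS => ?_⟩
  · rw [qc_iff]
    intro ι F π hπ
    obtain ⟨S, hS, hloc⟩ := (je_iff_local π).1 hπ X (el X _ (𝟙 _))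
    obtain ⟨n, V, g, hg, hcov⟩ := h S hS
    choose i t ht using fun k => hloc (V k) (g k) (hg k)
    refine ⟨Finset.univ.image i, je_refine (je_of_cover V g hcov) fun k => ?_⟩
    refine ⟨⟨i k, Finset.mem_image.2 ⟨k, Finset.mem_univ k, rfl⟩⟩, (el (V k) _).symm (t k), ?_⟩
    apply (el (V k) (eps J X)).injective
    rw [el_comp, Equiv.apply_symm_apply, ht k, ← el_map, Category.comp_id]
  · obtain ⟨s, hs⟩ := qc_exists_finite h (π := fun p : Σ Y : C, {f : Y ⟶ X // S f} => am (J := J) p.2.1) (by
      refine je_of_cover (fun p : Σ Y : C, {f : Y ⟶ X // S f} => p.1) (fun p => p.2.1) (J.superset_covering ?_ hS)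
      intro Y f hf
      exact Sieve.ofArrows_mk (fun p : Σ Y : C, {f : Y ⟶ X // S f} => p.1) (fun p => p.2.1) ⟨Y, f, hf⟩)
    refine ⟨s.card, fun k => (s.equivFin.symm k).1.1, fun k => (s.equivFin.symm k).1.2.1,
      fun k => (s.equivFin.symm k).1.2.2, mem_of_je _ _ fun Z a b e => hs Z a b fun p => ?_⟩
    obtain ⟨k, rfl⟩ := s.equivFin.symm.surjective p
    exact e k

theorem qc_eps_of_site (hC : ∀ X : C, IsQCSite J X) (X : C) : IsQC (eps J X) := (qcSite_iff X).1 (hC X)

end Groth.Agent.ToposQC
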